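import Groth.Agent.PBasis.Basic
import Mathlib.FieldTheory.KummerPolynomial
import Mathlib.FieldTheory.IntermediateField.Adjoin.Basic
import Mathlib.RingTheory.PowerBasis
import Mathlib.RingTheory.AlgebraTower
import Mathlib.Order.Zorn

/-!
# `p`-bases of field extensions
-/

universe u

namespace Groth.Agent.PBasis.Field

open EGA41 Groth.Agent.PBasis.Basic

variable (p : ℕ) [hp : Fact p.Prime] {k K : Type u} [Field k] [Field K] [Algebra k K] [CharP K p]

omit [CharP K p] in
/-- Inverses exist in every subalgebra containing all `p`-th powers. -/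
lemma inv_mem {R : Type u} [CommRing R] [Algebra R K] (S : Subalgebra R K) (hS : ∀ y : K, y ^ p ∈ S)
    {y : K} (hy : y ∈ S) : y⁻¹ ∈ S := by
  obtain ⟨n, hn⟩ : ∃ n, p = n + 1 := ⟨p - 1, (Nat.succ_pred_eq_of_pos hp.out.pos).symm⟩
  rcases eq_or_ne y 0 with rfl | h
  · simp
  · have : y⁻¹ = y ^ n * (y⁻¹) ^ p := by
      rw [hn, pow_succ, ← mul_assoc, ← mul_pow, mul_inv_cancel₀ h, one_pow, one_mul]
    rw [this]
    exact mul_mem (pow_mem hy _) (hS _)

variable (k K) in
/-- The field `k(K^p)`. -/
noncomputable def pField : IntermediateField k K where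
  toSubalgebra := pPowerSubalgebra p k K
  inv_mem' _ hy := inv_mem p _ (fun z => Algebra.subset_adjoin (Set.mem_range_self z)) hy

omit [CharP K p] in
lemma pow_mem_pField (y : K) : y ^ p ∈ pField p k K := Algebra.subset_adjoin ⟨y, rfl⟩

omit [CharP K p] in
lemma pField_le {G : IntermediateField k K} (h : ∀ y : K, y ^ p ∈ G) : pField p k K ≤ G :=
  Algebra.adjoin_le (S := G.toSubalgebra) fun _ ⟨y, hy⟩ => hy ▸ h y

omit [CharP K p] in
lemma pField_eq_adjoin :
    pField p k K = IntermediateField.adjoin k (Set.range fun y : K => y ^ p) :=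
  le_antisymm (pField_le p fun y => IntermediateField.subset_adjoin k _ (Set.mem_range_self y))
    (IntermediateField.adjoin_le_iff.mpr fun _ ⟨y, hy⟩ => hy ▸ pow_mem_pField p y)

/-- The field generated by `k`, the `p`-th powers and a set. -/
noncomputable def gen (k : Type u) {K : Type u} [Field k] [Field K] [Algebra k K] (t : Set K) :
    IntermediateField k K :=
  IntermediateField.adjoin k ((Set.range fun y : K => y ^ p) ∪ t)

omit [CharP K p] in
lemma gen_mono {s t : Set K} (h : s ⊆ t) : gen p k s ≤ gen p k t :=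
  IntermediateField.adjoin.mono k _ _ (Set.union_subset_union_right _ h)

omit [CharP K p] in
lemma subset_gen (t : Set K) : t ⊆ gen p k t :=
  fun _ hy => IntermediateField.subset_adjoin k _ (Or.inr hy)

omit [CharP K p] in
lemma pField_le_gen (t : Set K) : pField p k K ≤ gen p k t :=
  pField_le p fun y => IntermediateField.subset_adjoin k _ (Or.inl (Set.mem_range_self y))

omit [CharP K p] in
lemma gen_toSubalgebra (t : Set K) :
    (gen p k t : Set K) = Algebra.adjoin (pPowerSubalgebra p k K) t := by
  have hpow : ∀ y : K, y ^ p ∈ (Algebra.adjoin (pPowerSubalgebra p k K) t).restrictScalars k :=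
    fun y => Subalgebra.algebraMap_mem _ (⟨y ^ p, Algebra.subset_adjoin ⟨y, rfl⟩⟩ : pPowerSubalgebra p k K)
  let T : IntermediateField k K :=
    { toSubalgebra := (Algebra.adjoin (pPowerSubalgebra p k K) t).restrictScalars k
      inv_mem' := fun _ hy => inv_mem p _ hpow hy }
  have h1 : gen p k t ≤ T := by
    refine IntermediateField.adjoin_le_iff.mpr ?_
    rintro y (⟨z, rfl⟩ | hy)
    · exact hpow z
    · exact Algebra.subset_adjoin hy
  refine Set.Subset.antisymm h1 fun y hy => ?_
  induction hy using Algebra.adjoin_induction with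
  | mem y hy => exact subset_gen p t hy
  | algebraMap r => exact pField_le_gen p t r.2
  | add a b _ _ ha hb => exact add_mem ha hb
  | mul a b _ _ ha hb => exact mul_mem ha hb

variable {ι : Type u} (x : ι → K)

/-- Reduced exponent vectors supported in `s`. -/
def Red (s : Set ι) : Set (ι →₀ ℕ) := {e | (∀ i, e i < p) ∧ (e.support : Set ι) ⊆ s}

variable (k) in
/-- `p`-independence of a subfamily. -/
def IndepOn (s : Set ι) : Prop := LinearIndepOn (pField p k K) (pMonomial x) (Red p s)

omit [CharP K p] in
lemma isPIndependent_iff_reindex {κ : Type u} (f : κ → ι) (hf : Function.Injective f) :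
    IsPIndependent p k (x ∘ f) ↔ IndepOn p k x (Set.range f) := by
  classical
  let g : Exp p κ → Red p (Set.range f) := fun e => ⟨e.1.mapDomain f, by
    intro i
    by_cases hi : i ∈ Set.range f
    · obtain ⟨j, rfl⟩ := hi
      rw [Finsupp.mapDomain_apply hf]
      exact e.2 j
    · rw [Finsupp.mapDomain_of_notMem_range _ _ hi]
      exact hp.out.pos, fun i hi => by
    by_contra h
    exact (Finsupp.mem_support_iff.mp hi) (Finsupp.mapDomain_of_notMem_range _ _ h)⟩
  have hg : Function.Bijective g := by
    refine ⟨fun a b h => Subtype.ext (Finsupp.mapDomain_injective hf (congrArg Subtype.val h)),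
      fun e => ⟨⟨e.1.comapDomain f hf.injOn, fun j => e.2.1 (f j)⟩, Subtype.ext ?_⟩⟩
    exact Finsupp.mapDomain_comapDomain f hf e.1 e.2.2
  have hm : (fun e : Exp p κ => pMonomial (x ∘ f) e.1) =
      (fun e : Red p (Set.range f) => pMonomial x e.1) ∘ g := by
    funext e
    show pMonomial (x ∘ f) e.1 = pMonomial x (e.1.mapDomain f)
    rw [pMonomial, pMonomial, Finsupp.prod_mapDomain_index_inj hf]
    rfl
  show LinearIndependent (pField p k K) (fun e : Exp p κ => pMonomial (x ∘ f) e.1) ↔ _
  rw [hm]
  exact linearIndependent_equiv (Equiv.ofBijective g hg)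

omit [CharP K p] in
lemma isPIndependent_iff : IsPIndependent p k x ↔ IndepOn p k x Set.univ := by
  simpa using isPIndependent_iff_reindex p x id Function.injective_id

omit [CharP K p] in
lemma isPIndependent_val_iff (B : Set K) :
    IsPIndependent p k (Subtype.val : B → K) ↔ IndepOn p k (id : K → K) B := by
  have := isPIndependent_iff_reindex p (k := k) (id : K → K) (Subtype.val : B → K) Subtype.val_injective
  rwa [Subtype.range_coe] at this

omit [CharP K p] in
lemma indepOn_empty : IndepOn p k x ∅ := by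
  have h : Red p (∅ : Set ι) = {0} := by
    ext e
    refine ⟨fun he => Finsupp.support_eq_empty.mp (by simpa using he.2), fun he => ?_⟩
    rw [Set.mem_singleton_iff.mp he]
    exact ⟨fun i => hp.out.pos, by simp⟩
  show LinearIndepOn _ _ (Red p (∅ : Set ι))
  rw [h]
  refine LinearIndepOn.singleton (R := pField p k K) ?_
  rw [pMonomial_zero]
  exact one_ne_zero

omit [CharP K p] in
lemma pMonomial_mem_gen {s : Set ι} {e : ι →₀ ℕ} (he : (e.support : Set ι) ⊆ s) :
    pMonomial x e ∈ gen p k (x '' s) :=
  prod_mem fun i hi => pow_mem (subset_gen p _ (Set.mem_image_of_mem x (he hi))) _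

lemma indepOn_insert {s : Set ι} {a : ι} (hs : IndepOn p k x s)
    (ha : x a ∉ gen p k (x '' s)) : IndepOn p k x (insert a s) := by
  classical
  set k₁ := pField p k K
  let F : IntermediateField k₁ K := IntermediateField.extendScalars (pField_le_gen (k := k) p (x '' s))
  have hmemF : ∀ y : K, y ∈ F ↔ y ∈ gen p k (x '' s) := fun y => IntermediateField.mem_extendScalars _
  have haF : x a ∉ F := fun h => ha ((hmemF _).mp h)
  let c : F := ⟨x a ^ p, (hmemF _).mpr (pField_le_gen p _ (pow_mem_pField p _))⟩
  have hirr : Irreducible (Polynomial.X ^ p - Polynomial.C c : Polynomial F) := by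
    refine X_pow_sub_C_irreducible_of_prime hp.out fun b hb => haF ?_
    have h1 : (b : K) ^ p = x a ^ p := by simpa [c] using congrArg (Subtype.val) hb
    have : x a = b := (frobenius_inj K p (by simpa [frobenius_def] using h1)).symm
    rw [this]; exact b.2
  have hmin : (minpoly F (x a)).natDegree = p := by
    rw [← minpoly.eq_of_irreducible_of_monic hirr (x := x a) (by simp [c])
      (Polynomial.monic_X_pow_sub_C c hp.out.ne_zero), Polynomial.natDegree_X_pow_sub_C]
  have hc : LinearIndependent F fun j : Fin p => x a ^ (j : ℕ) :=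
    (linearIndependent_pow (K := F) (x a)).comp (Fin.cast hmin.symm) (Fin.cast_injective _)
  have hb : LinearIndependent k₁ fun e : Red p s =>
      (⟨pMonomial x e.1, (hmemF _).mpr (pMonomial_mem_gen p x e.2.2)⟩ : F) :=
    LinearIndependent.of_comp (F.val.toLinearMap) hs
  have hprod := linearIndependent_smul hb hc
  let φ : Red p (insert a s) → Red p s × Fin p := fun e =>
    (⟨e.1.erase a, fun i => by
        by_cases hi : i = a
        · simp [hi, hp.out.pos]
        · simp [hi, e.2.1 i], fun i hi => by
        rw [Finsupp.support_erase, Finset.mem_coe, Finset.mem_erase] at hi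
        exact (e.2.2 hi.2).resolve_left hi.1⟩, ⟨e.1 a, e.2.1 a⟩)
  have hφ : Function.Injective φ := by
    intro e f h
    have h1 : e.1.erase a = f.1.erase a := congrArg (fun z => (z.1 : ι →₀ ℕ)) h
    have h2 : e.1 a = f.1 a := congrArg (fun z => (z.2 : ℕ)) h
    refine Subtype.ext ?_
    rw [← Finsupp.erase_add_single a e.1, ← Finsupp.erase_add_single a f.1, h1, h2]
  show LinearIndependent k₁ fun e : Red p (insert a s) => pMonomial x e.1
  convert hprod.comp φ hφ using 1
  funext e
  show pMonomial x e.1 = pMonomial x (e.1.erase a) * x a ^ e.1 a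
  rw [← pMonomial_single x a, ← pMonomial_add, Finsupp.erase_add_single]

lemma indepOn_of_notMem {s : Set ι} (h : ∀ a ∈ s, x a ∉ gen p k (x '' (s \ {a}))) :
    IndepOn p k x s := by
  classical
  have hfin : ∀ t : Finset ι, (t : Set ι) ⊆ s → IndepOn p k x t := by
    intro t
    induction t using Finset.induction with
    | empty => intro _; simpa using indepOn_empty p x
    | insert a t hat ih =>
      intro hts
      rw [Finset.coe_insert] at hts ⊢
      refine indepOn_insert p x (ih ((Set.subset_insert _ _).trans hts)) fun hmem => ?_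
      refine h a (hts (Set.mem_insert _ _)) (gen_mono p (Set.image_mono ?_) hmem)
      intro i hi
      exact ⟨hts (Set.mem_insert_of_mem _ hi), fun hia => hat (Set.mem_singleton_iff.mp hia ▸ hi)⟩
  have hU : Red p s = ⋃ t : {t : Finset ι // (t : Set ι) ⊆ s}, Red p (t.1 : Set ι) := by
    ext e
    simp only [Set.mem_iUnion]
    refine ⟨fun he => ⟨⟨e.support, he.2⟩, he.1, subset_rfl⟩, fun ⟨t, he⟩ => ⟨he.1, he.2.trans t.2⟩⟩
  show LinearIndepOn _ _ (Red p s)
  rw [hU]
  refine linearIndepOn_iUnion_of_directed (fun t t' => ⟨⟨t.1 ∪ t'.1, by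
    simpa using ⟨t.2, t'.2⟩⟩, ?_, ?_⟩) fun t => hfin t.1 t.2
  · exact fun e he => ⟨he.1, he.2.trans (by simp)⟩
  · exact fun e he => ⟨he.1, he.2.trans (by simp)⟩

omit [CharP K p] in
lemma gen_image_subset_span (s : Set ι) :
    (gen p k (x '' s) : Set K) ⊆ Submodule.span (pField p k K) (pMonomial x '' Red p s) := by
  intro y hy
  rw [gen_toSubalgebra] at hy
  have hy' : y ∈ Submodule.span (pPowerSubalgebra p k K)
      (Set.range fun e : Exp p s => pMonomial (fun i : s => x i) e.1) := by
    rw [span_eq_adjoin, show Set.range (fun i : s => x i) = x '' s from (Set.image_eq_range x s).symm]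
    exact hy
  refine Submodule.span_mono ?_ hy'
  rintro _ ⟨e, rfl⟩
  classical
  refine ⟨e.1.mapDomain Subtype.val, ⟨fun i => ?_, fun i hi => ?_⟩,
    Finsupp.prod_mapDomain_index_inj Subtype.val_injective⟩
  · by_cases hi : i ∈ s
    · rw [show i = ((⟨i, hi⟩ : s) : ι) from rfl, Finsupp.mapDomain_apply Subtype.val_injective]
      exact e.2 _
    · rw [Finsupp.mapDomain_of_notMem_range _ _ (by simpa using hi)]
      exact hp.out.pos
  · by_contra h
    exact (Finsupp.mem_support_iff.mp hi) (Finsupp.mapDomain_of_notMem_range _ _ (by simpa using h))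

omit [CharP K p] in
lemma notMem_of_indepOn {s : Set ι} (h : IndepOn p k x s) {a : ι} (ha : a ∈ s) :
    x a ∉ gen p k (x '' (s \ {a})) := by
  classical
  intro hmem
  have h1 := gen_image_subset_span p x _ hmem
  rw [← pow_one (x a), ← pMonomial_single x a 1] at h1
  have hin : Finsupp.single a 1 ∈ Red p s := by
    refine ⟨fun i => ?_, fun i hi => ?_⟩
    · rw [Finsupp.single_apply]; split
      · exact hp.out.one_lt
      · exact hp.out.pos
    · rwa [Finset.mem_singleton.mp (Finsupp.support_single_subset hi)]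
  have hsub : Red p (s \ {a}) ⊆ Red p s \ {Finsupp.single a 1} := by
    refine fun e he => ⟨⟨he.1, he.2.trans Set.sdiff_subset⟩, ?_⟩
    rintro rfl
    exact (he.2 (by simp : a ∈ (Finsupp.single a 1).support)).2 rfl
  exact (linearIndepOn_iff_notMem_span.mp h) _ hin (Submodule.span_mono (Set.image_mono hsub) h1)

theorem isPIndependent_iff_notMem :
    IsPIndependent p k x ↔ ∀ a, x a ∉ gen p k (x '' {b | b ≠ a}) := by
  have h : ∀ a, (Set.univ \ {a} : Set ι) = {b | b ≠ a} := fun a => by ext; simp
  rw [isPIndependent_iff]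
  exact ⟨fun hx a => h a ▸ notMem_of_indepOn p x hx (Set.mem_univ a),
    fun hx => indepOn_of_notMem p x fun a _ => (h a).symm ▸ hx a⟩

omit [CharP K p] in
theorem isPGenerating_iff_gen : IsPGenerating p k x ↔ gen p k (Set.range x) = ⊤ := by
  rw [isPGenerating_iff_adjoin, ← SetLike.coe_set_eq (p := gen p k (Set.range x)), gen_toSubalgebra,
    ← SetLike.coe_set_eq]
  rfl

/-- Exchange-free existence of maximal independent subsets. -/
theorem exists_maximal {S L : Set K} (hLS : L ⊆ S) (hL : IndepOn p k (id : K → K) L) :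
    ∃ B, L ⊆ B ∧ B ⊆ S ∧ IndepOn p k (id : K → K) B ∧ S ⊆ gen p k B := by
  obtain ⟨B, hLB, ⟨⟨hBS, hB⟩, hmax⟩⟩ :=
    zorn_subset_nonempty {B | B ⊆ S ∧ IndepOn p k (id : K → K) B} (fun c hc hchain hne => by
      refine ⟨⋃₀ c, ⟨Set.sUnion_subset fun b hb => (hc hb).1, ?_⟩, fun b => Set.subset_sUnion_of_mem⟩
      have hU : Red p (⋃₀ c) = ⋃ b : c, Red p b.1 := by
        ext e
        simp only [Set.mem_iUnion]
        refine ⟨fun he => ?_, fun ⟨b, he⟩ => ⟨he.1, he.2.trans (Set.subset_sUnion_of_mem b.2)⟩⟩
        obtain ⟨b, hb, hsub⟩ :=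
          hchain.directedOn.exists_mem_subset_of_finite_of_subset_sUnion hne
            e.support.finite_toSet he.2
        exact ⟨⟨b, hb⟩, he.1, hsub⟩
      show LinearIndepOn _ _ (Red p (⋃₀ c))
      rw [hU]
      refine linearIndepOn_iUnion_of_directed ?_ fun b => (hc b.2).2
      intro b b'
      obtain ⟨d, hd, h1, h2⟩ := hchain.directedOn b.1 b.2 b'.1 b'.2
      exact ⟨⟨d, hd⟩, fun e he => ⟨he.1, he.2.trans h1⟩, fun e he => ⟨he.1, he.2.trans h2⟩⟩) L ⟨hLS, hL⟩
  refine ⟨B, hLB, hBS, hB, fun y hy => ?_⟩
  by_contra hyB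
  have hins := indepOn_insert p (id : K → K) (a := y) hB (by simpa using hyB)
  have := hmax (y := insert y B) ⟨Set.insert_subset hy hBS, hins⟩ (Set.subset_insert _ _)
  exact hyB (subset_gen p B (this (Set.mem_insert _ _)))

theorem exists_isPBasis_between {S L : Set K} (hLS : L ⊆ S) (hS : gen p k S = ⊤)
    (hL : IndepOn p k (id : K → K) L) :
    ∃ B : Set K, L ⊆ B ∧ B ⊆ S ∧ IsPBasis p k (Subtype.val : B → K) := by
  obtain ⟨B, hLB, hBS, hB, hgen⟩ := exists_maximal p hLS hL
  refine ⟨B, hLB, hBS, (isPIndependent_val_iff p B).mpr hB, ?_⟩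
  rw [isPGenerating_iff_gen, Subtype.range_coe, eq_top_iff, ← hS]
  refine IntermediateField.adjoin_le_iff.mpr ?_
  rintro y (⟨z, rfl⟩ | hy)
  · exact pField_le_gen p B (pow_mem_pField p z)
  · exact hgen hy

/-- Elements whose differential lies in a given submodule form a field containing `k(K^p)`. -/
lemma derivation_mem_of_mem_gen {L : Type u} [AddCommGroup L] [Module K L] [Module k L]
    [IsScalarTower k K L] (D : Derivation k K L) (N : Submodule K L) {t : Set K}
    (ht : ∀ y ∈ t, D y ∈ N) {y : K} (hy : y ∈ gen p k t) : D y ∈ N := by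
  let G : IntermediateField k K :=
    { carrier := {y | D y ∈ N}
      add_mem' := fun ha hb => by simp only [Set.mem_setOf_eq, map_add]; exact add_mem ha hb
      mul_mem' := fun {a b} ha hb => by
        simp only [Set.mem_setOf_eq, Derivation.leibniz]
        exact add_mem (N.smul_mem _ hb) (N.smul_mem _ ha)
      algebraMap_mem' := fun r => by simp
      inv_mem' := fun a ha => by
        simp only [Set.mem_setOf_eq, Derivation.leibniz_inv]
        exact N.smul_mem _ ha }
  refine (show gen p k t ≤ G from IntermediateField.adjoin_le_iff.mpr ?_) hy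
  rintro z (⟨w, rfl⟩ | hz)
  · show D (w ^ p) ∈ N
    rw [derivation_pow p]
    exact N.zero_mem
  · exact ht z hz

theorem isPIndependent_iff_kaehler :
    IsPIndependent p k x ↔ LinearIndependent K (fun i => KaehlerDifferential.D k K (x i)) := by
  refine ⟨fun hx => ?_, fun hx => (isPIndependent_iff_notMem p x).mpr fun a hmem => ?_⟩
  · have hnot := (isPIndependent_iff_notMem p x).mp hx
    have hinj : Function.Injective x := fun i j hij => by
      by_contra hne
      exact hnot i (hij ▸ subset_gen p _ ⟨j, fun h => hne h.symm, rfl⟩)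
    have hR : IndepOn p k (id : K → K) (Set.range x) := by
      rw [← isPIndependent_iff_reindex p (id : K → K) x hinj]
      exact hx
    obtain ⟨B, hxB, -, hB⟩ := exists_isPBasis_between p (Set.subset_univ (Set.range x))
      (eq_top_iff.mpr fun y _ => subset_gen p _ (Set.mem_univ y)) hR
    obtain ⟨b, hb⟩ := exists_kaehler_basis p _ hB
    have h2 := b.linearIndependent.comp (fun i => (⟨x i, hxB (Set.mem_range_self i)⟩ : B))
      fun i j h => hinj (congrArg Subtype.val h)
    simpa [Function.comp_def, hb] using h2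
  · refine hx.notMem_span_image (s := {b | b ≠ a}) (x := a) (by simp) ?_
    refine derivation_mem_of_mem_gen p _ _ ?_ hmem
    rintro _ ⟨b, hb, rfl⟩
    exact Submodule.subset_span ⟨b, hb, rfl⟩

omit [CharP K p] in
lemma mem_span_of_isPGenerating {A B : Type u} [CommRing A] [CommRing B] [Algebra A B] [CharP B p]
    {ι : Type u} (x : ι → B) (hx : IsPGenerating p A x) :
    Submodule.span B (Set.range fun i => KaehlerDifferential.D A B (x i)) = ⊤ := by
  rw [eq_top_iff, ← KaehlerDifferential.span_range_derivation, Submodule.span_le]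
  rintro _ ⟨b, rfl⟩
  have hb : b ∈ Algebra.adjoin (pPowerSubalgebra p A B) (Set.range x) :=
    ((isPGenerating_iff_adjoin p x).mp hx) ▸ Algebra.mem_top
  induction hb using Algebra.adjoin_induction with
  | mem y hy => obtain ⟨i, rfl⟩ := hy; exact Submodule.subset_span ⟨i, rfl⟩
  | algebraMap r =>
    rw [show algebraMap _ B r = (r : B) from rfl, derivation_pPower p _ r.2]
    exact Submodule.zero_mem _
  | add a b _ _ ha hb => rw [map_add]; exact Submodule.add_mem _ ha hb
  | mul a b _ _ ha hb =>
    rw [Derivation.leibniz]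
    exact Submodule.add_mem _ (Submodule.smul_mem _ _ hb) (Submodule.smul_mem _ _ ha)

theorem isPGenerating_iff_kaehler :
    IsPGenerating p k x ↔
      Submodule.span K (Set.range fun i => KaehlerDifferential.D k K (x i)) = ⊤ := by
  refine ⟨mem_span_of_isPGenerating p x, fun hspan => ?_⟩
  obtain ⟨B, -, hBx, hB, hgenB⟩ := exists_maximal p (Set.empty_subset (Set.range x))
    (indepOn_empty p (k := k) (id : K → K))
  obtain ⟨B', hBB', -, hB'⟩ := exists_isPBasis_between p (Set.subset_univ B)
    (eq_top_iff.mpr fun y _ => subset_gen p _ (Set.mem_univ y)) hB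
  obtain ⟨b, hb⟩ := exists_kaehler_basis p _ hB'
  have hB'B : B' ⊆ B := fun y hy => by
    by_contra hyB
    refine b.linearIndependent.notMem_span_image (s := {z : B' | z.1 ∈ B}) (x := ⟨y, hy⟩) hyB ?_
    have hle : Submodule.span K (Set.range fun i => KaehlerDifferential.D k K (x i)) ≤
        Submodule.span K (b '' {z : B' | z.1 ∈ B}) := by
      refine Submodule.span_le.mpr ?_
      rintro _ ⟨i, rfl⟩
      refine derivation_mem_of_mem_gen p _ _ ?_ (hgenB (Set.mem_range_self i))
      intro z hz
      exact Submodule.subset_span ⟨⟨z, hBB' hz⟩, hz, hb _⟩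
    exact hle (hspan ▸ Submodule.mem_top)
  rw [isPGenerating_iff_gen, eq_top_iff, ← (isPGenerating_iff_gen p _).mp hB'.2, Subtype.range_coe]
  exact gen_mono p (hB'B.trans hBx)

/-- `d y = 0` exactly on `k(K^p)`. -/
theorem D_eq_zero_iff (y : K) : KaehlerDifferential.D k K y = 0 ↔ y ∈ pField p k K := by
  refine ⟨fun h => ?_, fun h => derivation_pPower p _ h⟩
  by_contra hy
  have hind : IsPIndependent p k (fun _ : PUnit.{u + 1} => y) := by
    refine (isPIndependent_iff_notMem p _).mpr fun a hmem => hy ?_
    have hempty : ((fun _ : PUnit.{u + 1} => y) '' {b | b ≠ a}) = ∅ := by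
      ext z; simp
    rw [hempty] at hmem
    refine (show gen p k (∅ : Set K) ≤ pField p k K from ?_) hmem
    rw [gen, Set.union_empty, pField_eq_adjoin]
  exact ((isPIndependent_iff_kaehler p _).mp hind).ne_zero PUnit.unit h

variable (k K) in
theorem exists_isPBasis : ∃ B : Set K, IsPBasis p k (Subtype.val : B → K) := by
  obtain ⟨B, -, -, hB⟩ := exists_isPBasis_between p (k := k) (Set.subset_univ (∅ : Set K))
    (eq_top_iff.mpr fun y _ => subset_gen p _ (Set.mem_univ y)) (indepOn_empty p _)
  exact ⟨B, hB⟩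

end Groth.Agent.PBasis.Field
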