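import Mathlib

/-!
# Power series fields with coefficients in a subfield
-/

set_option autoImplicit false
universe u

noncomputable section

namespace Groth.Agent.PBasis.SeriesField

variable {k : Type u} [Field k] {r : ℕ}

/-- Series with coefficients in `F`. -/
def ser (F : Subfield k) (r : ℕ) : Subring (MvPowerSeries (Fin r) k) where
  carrier := {f | ∀ n, MvPowerSeries.coeff n f ∈ F}
  one_mem' n := by
    classical
    rw [MvPowerSeries.coeff_one]
    split
    · exact one_mem F
    · exact zero_mem F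
  zero_mem' n := by simp
  add_mem' ha hb n := by rw [map_add]; exact add_mem (ha n) (hb n)
  neg_mem' ha n := by rw [map_neg]; exact neg_mem (ha n)
  mul_mem' ha hb n := by
    classical
    rw [MvPowerSeries.coeff_mul]
    exact sum_mem fun q _ => mul_mem (ha _) (hb _)

/-- The subfield `F((T))`. -/
abbrev fld (F : Subfield k) (r : ℕ) : Subfield (FractionRing (MvPowerSeries (Fin r) k)) :=
  Subfield.closure (algebraMap (MvPowerSeries (Fin r) k) (FractionRing (MvPowerSeries (Fin r) k)) ''
    {f | ∀ n, MvPowerSeries.coeff n f ∈ F})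

theorem exists_div (F : Subfield k) {x : FractionRing (MvPowerSeries (Fin r) k)} (hx : x ∈ fld F r) :
    ∃ a ∈ ser F r, ∃ b ∈ ser F r, x = algebraMap _ _ a / algebraMap _ _ b := by
  obtain ⟨y, hy, z, hz, rfl⟩ := Subfield.mem_closure_iff.mp hx
  have key : ∀ w ∈ Subring.closure (algebraMap (MvPowerSeries (Fin r) k) (FractionRing (MvPowerSeries (Fin r) k)) ''
      {f | ∀ n, MvPowerSeries.coeff n f ∈ F}), ∃ a ∈ ser F r, algebraMap _ _ a = w := fun w hw => by
    rw [← RingHom.map_closure] at hw
    obtain ⟨a, ha, rfl⟩ := Subring.mem_map.mp hw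
    exact ⟨a, (Subring.closure_le (t := ser F r)).mpr (fun f hf => hf) ha, rfl⟩
  obtain ⟨a, ha, rfl⟩ := key y hy
  obtain ⟨b, hb, rfl⟩ := key z hz
  exact ⟨a, ha, b, hb, rfl⟩

theorem algebraMap_mem_fld (F : Subfield k) {a : MvPowerSeries (Fin r) k} (ha : a ∈ ser F r) :
    algebraMap _ (FractionRing (MvPowerSeries (Fin r) k)) a ∈ fld F r :=
  Subfield.subset_closure ⟨a, ha, rfl⟩

theorem fld_mono {F G : Subfield k} (h : F ≤ G) : fld F r ≤ fld G r :=
  Subfield.closure_mono (Set.image_mono fun _ hf n => h (hf n))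

/-- `k[[T]] ∩ F((T)) = F[[T]]`, in cleared form. -/
theorem mem_ser_of_mul_mem (F : Subfield k) {h b : MvPowerSeries (Fin r) k} (hb : b ∈ ser F r) (hb0 : b ≠ 0)
    (hhb : h * b ∈ ser F r) : h ∈ ser F r := by
  classical
  obtain ⟨π, hπ⟩ := LinearMap.exists_leftInverse_of_injective (Algebra.linearMap F k)
    (LinearMap.ker_eq_bot.mpr (algebraMap F k).injective)
  have hπF : ∀ c : F, π (c : k) = c := fun c => DFunLike.congr_fun hπ c
  let P : MvPowerSeries (Fin r) k := fun n => ((π (MvPowerSeries.coeff n h) : F) : k)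
  have hP : ∀ n, MvPowerSeries.coeff n P = ((π (MvPowerSeries.coeff n h) : F) : k) := fun n => rfl
  have hmul : P * b = h * b := by
    ext n
    have e1 : MvPowerSeries.coeff n (P * b) =
        ((π (MvPowerSeries.coeff n (h * b)) : F) : k) := by
      rw [MvPowerSeries.coeff_mul, MvPowerSeries.coeff_mul, map_sum, AddSubmonoidClass.coe_finsetSum]
      refine Finset.sum_congr rfl fun q _ => ?_
      have : MvPowerSeries.coeff q.1 h * MvPowerSeries.coeff q.2 b =
          (⟨_, hb q.2⟩ : F) • MvPowerSeries.coeff q.1 h := mul_comm _ _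
      rw [hP, this, map_smul, smul_eq_mul, mul_comm (⟨_, hb q.2⟩ : F)]
      rfl
    rw [e1, show MvPowerSeries.coeff n (h * b) = ((⟨_, hhb n⟩ : F) : k) from rfl, hπF]
  have he : P = h := mul_right_cancel₀ hb0 hmul
  intro n
  rw [← he, hP]
  exact (π _).2

theorem iInf_fld {ι : Type u} [Nonempty ι] (F : ι → Subfield k) (e : ℕ)
    (hq : ∀ x : k, x ^ ringExpChar k ^ e ∈ ⨅ i, F i) : (⨅ i, fld (F i) r) = fld (⨅ i, F i) r := by
  classical
  refine le_antisymm (fun x hx => ?_) (le_iInf fun i => fld_mono (iInf_le F i))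
  set P := MvPowerSeries (Fin r) k
  obtain ⟨f, g, hg, rfl⟩ := IsFractionRing.div_surjective (A := P) x
  have hg0 : g ≠ 0 := nonZeroDivisors.ne_zero hg
  haveI : ExpChar k (ringExpChar k) := inferInstance
  have hpos : 1 ≤ ringExpChar k ^ e := Nat.one_le_pow _ _ (expChar_pos k _)
  set q := ringExpChar k ^ e with hqdef
  let G := g ^ q
  have hG : G ∈ ser (⨅ i, F i) r := fun n => by
    show MvPowerSeries.coeff n (g ^ q) ∈ _
    rw [hqdef, ← MvPowerSeries.map_iterateFrobenius_expand (ringExpChar k) (expChar_ne_zero k _) g e,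
      MvPowerSeries.coeff_map, iterateFrobenius_def]
    exact hq _
  have hG0 : G ≠ 0 := pow_ne_zero _ hg0
  let h := f * g ^ (q - 1)
  have hinj := IsFractionRing.injective P (FractionRing P)
  have hg0' : algebraMap P (FractionRing P) g ≠ 0 := (map_ne_zero_iff _ hinj).mpr hg0
  have hx' : algebraMap P (FractionRing P) f / algebraMap _ _ g = algebraMap _ _ h / algebraMap _ _ G := by
    have e1 : g ^ q = g * g ^ (q - 1) := by rw [← pow_succ', Nat.sub_add_cancel hpos]
    simp only [h, G, e1, map_mul]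
    rw [mul_div_mul_right _ _ (by rw [map_pow]; exact pow_ne_zero _ hg0')]
  rw [hx'] at hx ⊢
  have hh : h ∈ ser (⨅ i, F i) r := fun n => Subfield.mem_iInf.mpr fun i => by
    obtain ⟨a, ha, b, hb, hab⟩ := exists_div (F i) ((iInf_le (fun i => fld (F i) r) i) hx)
    have hGi : G ∈ ser (F i) r := fun n => Subfield.mem_iInf.mp (hG n) i
    rcases eq_or_ne b 0 with rfl | hb0
    · rw [map_zero, div_zero, div_eq_zero_iff, map_eq_zero_iff _ hinj, map_eq_zero_iff _ hinj] at hab
      simp [hab.resolve_right hG0]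
    · rw [div_eq_div_iff ((map_ne_zero_iff _ hinj).mpr hG0) ((map_ne_zero_iff _ hinj).mpr hb0), ← map_mul, ← map_mul] at hab
      exact mem_ser_of_mul_mem (F i) hb hb0 (hinj hab ▸ mul_mem ha hGi) n
  exact div_mem (algebraMap_mem_fld _ hh) (algebraMap_mem_fld _ hG)

/-- Series with coefficients in a finite span over a subfield split along the spanning family. -/
theorem exists_coordinates {J : Type*} [Fintype J] (F : Subfield k) (a : J → k) {f : MvPowerSeries (Fin r) k}
    (hf : ∀ n, MvPowerSeries.coeff n f ∈ Submodule.span F (Set.range a)) :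
    ∃ g : J → MvPowerSeries (Fin r) k, (∀ j, g j ∈ ser F r) ∧ ∑ j, MvPowerSeries.C (a j) * g j = f := by
  choose c hc using fun n => (Submodule.mem_span_range_iff_exists_fun F).mp (hf n)
  let g : J → MvPowerSeries (Fin r) k := fun j n => (c n j : k)
  have hg : ∀ j n, MvPowerSeries.coeff n (g j) = (c n j : k) := fun _ _ => rfl
  refine ⟨g, fun j n => (hg j n).symm ▸ (c n j).2, ?_⟩
  ext n
  rw [map_sum, ← hc n]
  refine Finset.sum_congr rfl fun j _ => ?_
  rw [MvPowerSeries.coeff_C_mul, hg, mul_comm]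
  rfl

end Groth.Agent.PBasis.SeriesField
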