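import Groth.Agent.PBasis.Field
import Groth.Agent.FieldSep.Cartier
import Groth.Agent.FieldSep.Imperfection
import Groth.Agent.EGA41Lib.SubfieldKaehler
import Mathlib

/-!
# Directed families of subfields and differentials (EGA 0_IV 21.8)
-/

set_option autoImplicit false
set_option linter.style.haveILetI false
universe u

open EGA41 TensorProduct KaehlerDifferential

noncomputable section

namespace Groth.Agent.PBasis.Family

open Groth.Agent.PBasis.Basic Groth.Agent.PBasis.Field

variable (p : ℕ) [Fact p.Prime] {k₀ K : Type u} [Field k₀] [Field K] [Algebra k₀ K] [CharP K p]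
  {ι : Type u} [Preorder ι] [IsDirected ι (· ≤ ·)] [Nonempty ι] (k : ι → IntermediateField k₀ K)

/-- `k₀(K^p)` as written in the statements. -/
abbrev PF (k₀ K : Type u) [Field k₀] [Field K] [Algebra k₀ K] : IntermediateField k₀ K :=
  IntermediateField.adjoin k₀ (Set.range fun y : K => y ^ p)

/-- The intersection condition. -/
def Cap : Prop := (⨅ i, k i ⊔ PF p k₀ K) = PF p k₀ K

omit [Preorder ι] [IsDirected ι (· ≤ ·)] [Nonempty ι] [CharP K p] in
theorem pField_le_sup (F : IntermediateField k₀ K) {y : K} (hy : y ∈ pPowerSubalgebra p F K) :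
    y ∈ F ⊔ PF p k₀ K := by
  induction hy using Algebra.adjoin_induction with
  | mem y hy =>
    obtain ⟨z, rfl⟩ := hy
    exact (le_sup_right : PF p k₀ K ≤ _) (IntermediateField.subset_adjoin k₀ _ ⟨z, rfl⟩)
  | algebraMap r => exact (le_sup_left : F ≤ _) r.2
  | add a b _ _ ha hb => exact add_mem ha hb
  | mul a b _ _ ha hb => exact mul_mem ha hb

omit [Preorder ι] [IsDirected ι (· ≤ ·)] [Nonempty ι] in
/-- Elements of `F(K^p)` are killed by every `F`-derivation. -/
theorem D_eq_zero_of_mem_sup (F : IntermediateField k₀ K) {y : K} (hy : y ∈ F ⊔ PF p k₀ K) :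
    D F K y = 0 := by
  rw [D_eq_zero_iff p]
  refine (show F ⊔ PF p k₀ K ≤ (pField p F K).restrictScalars k₀ from sup_le ?_ ?_) hy
  · exact fun z hz => (pField p F K).algebraMap_mem ⟨z, hz⟩
  · exact IntermediateField.adjoin_le_iff.mpr fun z ⟨w, hw⟩ => hw ▸ pow_mem_pField p w

/-- (a) implies (b). -/
theorem eq_zero_of_forall (hk : Antitone k) (h : Cap p k) (ω : Ω[K⁄k₀])
    (hω : ∀ i, map k₀ (k i) K K ω = 0) : ω = 0 := by
  classical
  obtain ⟨B, hB⟩ := exists_isPBasis p k₀ K
  obtain ⟨b, hb⟩ := exists_kaehler_basis p _ hB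
  set c := b.repr ω with hc
  let s := c.support
  let x : s → K := fun i => ((i : B) : K)
  have hωsum : ω = ∑ i : s, c i • D k₀ K (x i) := by
    conv_lhs => rw [← b.linearCombination_repr ω, Finsupp.linearCombination_apply, Finsupp.sum, ← Finset.sum_coe_sort]
    exact Finset.sum_congr rfl fun i _ => by rw [hb]
  have hx₀ : IsPIndependent p k₀ x := by
    rw [isPIndependent_iff_kaehler]
    have := b.linearIndependent.comp (fun i : s => (i : B)) Subtype.val_injective
    simpa [Function.comp_def, hb, x] using this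
  haveI : Finite (Exp p (s : Type u)) :=
    Finite.of_injective (fun e => fun i => (⟨e.1 i, e.2 i⟩ : Fin p)) fun e f h =>
      Subtype.ext (Finsupp.ext fun i => congrArg Fin.val (congrFun h i))
  haveI := Fintype.ofFinite (Exp p (s : Type u))
  let v : Exp p (s : Type u) → K := fun e => pMonomial x e.1
  let Fs : ι → Subfield K := fun i => (k i ⊔ PF p k₀ K).toSubfield
  have h0 : EGA41Lib.SubfieldKaehler.Indep (↑(⨅ i, Fs i) : Set K) v Finset.univ := by
    intro a ha hsum i hi
    have hmem : ∀ j, a j ∈ pPowerSubalgebra p k₀ K := fun j => by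
      have h1 : a j ∈ ⨅ i, k i ⊔ PF p k₀ K :=
        (by rw [← SetLike.mem_coe, IntermediateField.coe_iInf, Set.mem_iInter]; exact fun i => Subfield.mem_iInf.mp (ha j (Finset.mem_univ j)) i)
      rw [show (⨅ i, k i ⊔ PF p k₀ K) = PF p k₀ K from h, PF, ← pField_eq_adjoin] at h1
      exact h1
    exact congrArg Subtype.val
      (Fintype.linearIndependent_iff.mp hx₀ (fun j => ⟨a j, hmem j⟩) hsum i)
  obtain ⟨α, hα⟩ := EGA41Lib.SubfieldKaehler.exists_indep Fs
    (fun a b hab => show (k b ⊔ PF p k₀ K).toSubfield ≤ (k a ⊔ PF p k₀ K).toSubfield from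
      fun z hz => (sup_le_sup_right (hk hab) (PF p k₀ K) : k b ⊔ PF p k₀ K ≤ _) hz) v Finset.univ h0
  have hxα : IsPIndependent p (k α) x := by
    refine Fintype.linearIndependent_iff.mpr fun g hg i => Subtype.ext ?_
    exact hα (fun j => (g j : K)) (fun j _ => pField_le_sup p (k α) (g j).2) hg i (Finset.mem_univ i)
  rw [isPIndependent_iff_kaehler] at hxα
  have h1 := hω α
  rw [hωsum, map_sum] at h1
  simp only [map_smul, map_D, Algebra.algebraMap_self_apply] at h1
  rw [hωsum, Finset.sum_eq_zero]
  intro i _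
  rw [Fintype.linearIndependent_iff.mp hxα (fun j => c j) h1 i, zero_smul]

omit [Preorder ι] [IsDirected ι (· ≤ ·)] [Nonempty ι] in
/-- (b) on exact differentials implies (a). -/
theorem cap_of_forall (h : ∀ y : K, (∀ i, D (k i) K y = 0) → D k₀ K y = 0) : Cap p k := by
  refine le_antisymm (fun y hy => ?_) (le_iInf fun i => le_sup_right)
  rw [← SetLike.mem_coe, IntermediateField.coe_iInf, Set.mem_iInter] at hy
  have h1 := (D_eq_zero_iff p (k := k₀) y).mp (h y fun i => D_eq_zero_of_mem_sup p (k i) (hy i))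
  rwa [PF, ← pField_eq_adjoin]

theorem cap_iff (hk : Antitone k) :
    Cap p k ↔ ∀ ω : Ω[K⁄k₀], (∀ i, map k₀ (k i) K K ω = 0) → ω = 0 :=
  ⟨eq_zero_of_forall p k hk, fun h => cap_of_forall p k fun y hy =>
    h _ fun i => by rw [map_D]; exact hy i⟩

section Tensor

variable (L : Type u) [Field L] [Algebra K L] [Algebra k₀ L] [IsScalarTower k₀ K L]

/-- `L ⊗ Ω_{K/k₀} → L ⊗ Ω_{K/k_i}`. -/
abbrev mu (i : ι) : L ⊗[K] Ω[K⁄k₀] →ₗ[L] L ⊗[K] Ω[K⁄(k i)] :=
  ((map k₀ (k i) K K).restrictScalars K).baseChange L

omit [IsDirected ι (· ≤ ·)] [Nonempty ι] [CharP K p] [Algebra k₀ L] [IsScalarTower k₀ K L] in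
/-- The kernels decrease. -/
theorem map_eq_zero_of_le (hk : Antitone k) {i j : ι} (hij : i ≤ j) {η : L ⊗[K] Ω[K⁄k₀]}
    (h : mu k L j η = 0) : mu k L i η = 0 := by
  letI : Algebra (k j) (k i) := (IntermediateField.inclusion (hk hij)).toAlgebra
  haveI : IsScalarTower (k j) (k i) K := IsScalarTower.of_algebraMap_eq fun _ => rfl
  haveI : IsScalarTower k₀ (k j) (k i) := IsScalarTower.of_algebraMap_eq fun _ => rfl
  haveI : SMulCommClass (k j) K K := inferInstance
  have key : mu k L i = (((map (k j) (k i) K K).restrictScalars K).baseChange L) ∘ₗ mu k L j := by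
    rw [mu, mu, ← LinearMap.baseChange_comp]
    congr 1
    refine LinearMap.ext fun w => ?_
    have hw : w ∈ Submodule.span K (Set.range (D k₀ K)) := by rw [span_range_derivation]; trivial
    induction hw using Submodule.span_induction with
    | mem y hy => obtain ⟨a, rfl⟩ := hy; simp [map_D]
    | zero => simp
    | add a b _ _ ha hb => simp only [map_add, ha, hb]
    | smul a b _ hb => simp only [map_smul, hb]
  rw [key, LinearMap.comp_apply, h, map_zero]

/-- The intersection of the kernels is zero after tensoring. -/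
theorem tensor_eq_zero_of_forall (hk : Antitone k) (h : Cap p k) (η : L ⊗[K] Ω[K⁄k₀])
    (hη : ∀ i, mu k L i η = 0) : η = 0 := by
  classical
  let b := Module.Basis.ofVectorSpace K L
  let e : L ⊗[K] Ω[K⁄k₀] ≃ₗ[K] _ :=
    (LinearEquiv.rTensor _ b.repr).trans (TensorProduct.finsuppScalarLeft K Ω[K⁄k₀] _)
  have he : ∀ i x j, (map k₀ (k i) K K) (e x j) =
      ((LinearEquiv.rTensor _ b.repr).trans (TensorProduct.finsuppScalarLeft K Ω[K⁄(k i)] _)) (mu k L i x) j := by
    intro i x j
    induction x with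
    | zero => simp
    | add a c ha hc => simp only [map_add, Finsupp.add_apply, ha, hc]
    | tmul l w => simp [e, TensorProduct.finsuppScalarLeft_apply_tmul_apply]
  refine e.injective ?_
  rw [map_zero]
  refine Finsupp.ext fun j => ?_
  rw [Finsupp.zero_apply]
  refine eq_zero_of_forall p k hk h _ fun i => ?_
  rw [he, hη, map_zero, Finsupp.zero_apply]

/-- (a) implies the existence of admissible members. -/
theorem exists_admissible (hk : Antitone k) (h : Cap p k)
    [hfin : Module.Finite L (EGA41.imperfection k₀ K L)] :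
    ∃ i, ∀ ω ∈ EGA41.imperfection k₀ K L, mu k L i ω = 0 → ω = 0 := by
  classical
  let W := EGA41.imperfection k₀ K L
  let N : ι → Submodule L W := fun i => LinearMap.ker ((mu k L i) ∘ₗ W.subtype)
  letI : AddCommGroup W := Submodule.addCommGroup _
  haveI : FiniteDimensional L W := hfin
  haveI : IsNoetherian L W := @isNoetherian_of_isNoetherianRing_of_finite L W _ (Submodule.addCommGroup _) _ _ _
  haveI : IsArtinian L W := @isArtinian_of_fg_of_artinian' L W _ (Submodule.addCommGroup _) _ _ _
  obtain ⟨M, ⟨i, rfl⟩, hmin⟩ := IsArtinian.set_has_minimal (Set.range N) (Set.range_nonempty N)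
  refine ⟨i, fun ω hω h0 => ?_⟩
  refine tensor_eq_zero_of_forall p k L hk h ω fun j => ?_
  obtain ⟨l, hil, hjl⟩ := exists_ge_ge i j
  have hle : N l ≤ N i := fun w hw => map_eq_zero_of_le k L hk hil hw
  have heq : N l = N i := by
    by_contra hne
    exact hmin _ ⟨l, rfl⟩ (lt_of_le_of_ne hle hne)
  exact map_eq_zero_of_le k L hk hjl
    (show mu k L l ω = 0 from (heq.ge (show (⟨ω, hω⟩ : W) ∈ N i from h0) : (⟨ω, hω⟩ : W) ∈ N l))

omit [CharP K p] [Preorder ι] [IsDirected ι (· ≤ ·)] [Nonempty ι] in
/-- Differentials of `L` killed over `k_i` come from `ker (L ⊗ Ω_{K/k₀} → L ⊗ Ω_{K/k_i})`. -/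
theorem exists_preimage (i : ι) (ω : Ω[L⁄k₀]) (h : map k₀ (k i) L L ω = 0) :
    ∃ η : L ⊗[K] Ω[K⁄k₀], mu k L i η = 0 ∧ mapBaseChange k₀ K L η = ω := by
  obtain ⟨θ, hθ⟩ := (exact_mapBaseChange_map k₀ (k i) L ω).mp h
  refine ⟨(mapBaseChange k₀ (k i) K).baseChange L
    ((AlgebraTensorModule.cancelBaseChange (k i) K L L Ω[(k i)⁄k₀]).symm θ), ?_, ?_⟩
  · exact (FieldSep.Imperfection.exact_baseChange k₀ (k i) K L).apply_apply_eq_zero _
  · rw [← LinearMap.comp_apply, FieldSep.Imperfection.mapBaseChange_comp, LinearMap.comp_apply,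
      LinearEquiv.coe_coe, LinearEquiv.apply_symm_apply, hθ]

/-- (a) propagates to `L`. -/
theorem cap_extension [CharP L p] (hk : Antitone k) (h : Cap p k)
    [Module.Finite L (EGA41.imperfection k₀ K L)] :
    Cap p (fun i => (k i).map (IsScalarTower.toAlgHom k₀ K L)) := by
  refine le_antisymm (fun z hz => ?_) (le_iInf fun i => le_sup_right)
  rw [← SetLike.mem_coe, IntermediateField.coe_iInf, Set.mem_iInter] at hz
  have hzero : ∀ i, map k₀ (k i) L L (D k₀ L z) = 0 := fun i => by
    rw [map_D, Algebra.algebraMap_self_apply, D_eq_zero_iff p]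
    refine (show (k i).map (IsScalarTower.toAlgHom k₀ K L) ⊔ PF p k₀ L ≤ (pField p (k i) L).restrictScalars k₀
      from sup_le ?_ ?_) (hz i)
    · rintro _ ⟨y, hy, rfl⟩
      exact (pField p (k i) L).algebraMap_mem ⟨y, hy⟩
    · exact IntermediateField.adjoin_le_iff.mpr fun w ⟨v, hv⟩ => hv ▸ pow_mem_pField p v
  choose η hη1 hη2 using fun i => exists_preimage k L i _ (hzero i)
  obtain ⟨i₀, hadm⟩ := exists_admissible p k L hk h
  have hη0 : η i₀ = 0 := by
    refine tensor_eq_zero_of_forall p k L hk h _ fun j => ?_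
    obtain ⟨l, hil, hjl⟩ := exists_ge_ge i₀ j
    have h2 : η l - η i₀ = 0 := hadm _
      (by rw [EGA41.imperfection, LinearMap.mem_ker, map_sub, hη2, hη2, sub_self])
      (by rw [map_sub, hη1, map_eq_zero_of_le k L hk hil (hη1 l), sub_zero])
    rw [← sub_eq_zero.mp h2]
    exact map_eq_zero_of_le k L hk hjl (hη1 l)
  have hD : D k₀ L z = 0 := by rw [← hη2 i₀, hη0, map_zero]
  rw [D_eq_zero_iff p] at hD
  rwa [PF, ← pField_eq_adjoin]

/-- The imperfection module of a finite extension is finite. -/
theorem finite_imperfection [Module.Finite K L] : Module.Finite L (EGA41.imperfection k₀ K L) := by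
  let P := (⊥ : Subfield k₀)
  haveI : PerfectField P := FieldSep.Cartier.perfectField_bot k₀
  haveI : IsScalarTower P K L := IsScalarTower.of_algebraMap_eq fun c => by
    rw [IsScalarTower.algebraMap_apply P k₀ K, IsScalarTower.algebraMap_apply P k₀ L,
      ← IsScalarTower.algebraMap_apply k₀ K L]
  obtain ⟨d, -, hf⟩ := FieldSep.Cartier.cart_of_perfectField P K L
  haveI := hf.finite_ker
  let f := (((map P k₀ K K).baseChange L).domRestrict (mapBaseChange P K L).ker).codRestrict
      (EGA41.imperfection k₀ K L) fun x => by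
    rw [EGA41.imperfection, LinearMap.mem_ker, LinearMap.domRestrict_apply]
    have h1 := DFunLike.congr_fun (FieldSep.Imperfection.map_comp_mapBaseChange P k₀ K L) (x : L ⊗[K] Ω[K⁄P])
    rw [LinearMap.comp_apply, LinearMap.comp_apply] at h1
    rw [← h1, x.2, map_zero]
  refine Module.Finite.of_surjective f fun ω => ?_
  obtain ⟨η, h1, h2⟩ := FieldSep.Imperfection.exists_lift P k₀ K L ω.2
  exact ⟨⟨η, h1⟩, Subtype.ext h2⟩

end Tensor

/-- (b) on test extensions implies (a). -/
theorem cap_of_admissible (H : ∀ (L : Type u) [Field L] [Algebra K L] [Algebra k₀ L] [IsScalarTower k₀ K L],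
    Module.Finite L (EGA41.imperfection k₀ K L) →
      ∃ i, ∀ ω ∈ EGA41.imperfection k₀ K L, mu k L i ω = 0 → ω = 0) : Cap p k := by
  classical
  refine cap_of_forall p k fun y hy => ?_
  by_contra hne
  have hirr : Irreducible (Polynomial.X ^ p - Polynomial.C y : Polynomial K) :=
    X_pow_sub_C_irreducible_of_prime Fact.out fun b hb => hne (by rw [← hb]; exact derivation_pow p _ b)
  haveI : Fact (Irreducible (Polynomial.X ^ p - Polynomial.C y : Polynomial K)) := ⟨hirr⟩
  let L := AdjoinRoot (Polynomial.X ^ p - Polynomial.C y : Polynomial K)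
  haveI : CharP L p := charP_of_injective_algebraMap (algebraMap K L).injective p
  haveI : Module.Finite K L :=
    (Polynomial.monic_X_pow_sub_C y (Fact.out : p.Prime).ne_zero).finite_adjoinRoot
  obtain ⟨i, hi⟩ := H L (finite_imperfection L)
  have hroot : AdjoinRoot.root (Polynomial.X ^ p - Polynomial.C y : Polynomial K) ^ p = algebraMap K L y := by
    have h1 := AdjoinRoot.eval₂_root (Polynomial.X ^ p - Polynomial.C y : Polynomial K)
    rwa [Polynomial.eval₂_sub, Polynomial.eval₂_pow, Polynomial.eval₂_X, Polynomial.eval₂_C, sub_eq_zero] at h1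
  have h0 : (1 : L) ⊗ₜ[K] D k₀ K y = 0 := by
    refine hi _ ?_ ?_
    · rw [EGA41.imperfection, LinearMap.mem_ker, mapBaseChange_tmul, one_smul, map_D, ← hroot, derivation_pow p]
    · rw [mu, LinearMap.baseChange_tmul, LinearMap.restrictScalars_apply, map_D, Algebra.algebraMap_self_apply, hy i,
        tmul_zero]
  obtain ⟨f, hf⟩ := Module.Projective.exists_dual_ne_zero K hne
  have h1 := congrArg ((TensorProduct.rid K L).toLinearMap ∘ₗ LinearMap.lTensor L f) h0
  simp only [LinearMap.comp_apply, LinearMap.lTensor_tmul, LinearEquiv.coe_coe, TensorProduct.rid_tmul,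
    map_zero, smul_eq_zero, one_ne_zero, or_false] at h1
  exact hf h1

/-- `K` is finite over a subfield containing `K^p` and all but finitely many generators. -/
theorem finite_over {B : Set K} (E : IntermediateField k₀ K)
    (htopG : gen p k₀ (Set.range (Subtype.val : B → K)) = ⊤) (F : Finset B)
    (hE : gen p k₀ (Subtype.val '' {z : B | z ∉ F}) ≤ E) : Module.Finite E K := by
  classical
  have hpow : ∀ x : K, x ^ p ∈ E := fun x => hE (pField_le_gen p _ (pow_mem_pField p x))
  have hint : ∀ x : K, IsIntegral E x := fun x => by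
    refine IsIntegral.of_pow (Fact.out : p.Prime).pos ?_
    have h1 := isIntegral_algebraMap (R := E) (A := K) (x := ⟨x ^ p, hpow x⟩)
    exact h1
  let E' : IntermediateField E K := IntermediateField.adjoin E (Subtype.val '' (F : Set B))
  haveI : Finite (Subtype.val '' (F : Set B) : Set K) := ((F.finite_toSet).image _).to_subtype
  haveI : FiniteDimensional E E' := IntermediateField.finiteDimensional_adjoin fun x _ => hint x
  have htop : E' = ⊤ := by
    refine eq_top_iff.mpr fun y _ => ?_
    have hy : y ∈ gen p k₀ (Set.range (Subtype.val : B → K)) := by rw [htopG]; trivial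
    refine (show gen p k₀ (Set.range (Subtype.val : B → K)) ≤ E'.restrictScalars k₀ from
      IntermediateField.adjoin_le_iff.mpr ?_) hy
    intro w hw
    show w ∈ E'
    rcases hw with hw | hw
    · obtain ⟨v, hv⟩ := hw
      rw [← hv]
      exact E'.algebraMap_mem (⟨v ^ p, hpow v⟩ : E)
    · obtain ⟨z, hz'⟩ := hw
      rw [← hz']
      by_cases hz : z ∈ F
      · exact IntermediateField.subset_adjoin _ _ ⟨z, hz, rfl⟩
      · exact E'.algebraMap_mem (⟨z, hE (subset_gen p _ ⟨z, hz, rfl⟩)⟩ : E)
  exact Module.Finite.equiv ((IntermediateField.equivOfEq htop).trans IntermediateField.topEquiv).toLinearEquiv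

set_option maxHeartbeats 800000 in
omit [CharP K p] in
/-- The cofinite family attached to a `p`-basis. -/
theorem exists_cofinite_family [CharP K p] :
    ∃ (J : Type u) (_ : Preorder J) (_ : IsDirected J (· ≤ ·)) (_ : Nonempty J) (k : J → IntermediateField k₀ K),
      Antitone k ∧ Cap p k ∧ ∀ j, (∀ y : K, y ^ p ∈ k j) ∧ Module.Finite (k j) K := by
  classical
  obtain ⟨B, hB⟩ := exists_isPBasis p k₀ K
  obtain ⟨b, hb⟩ := exists_kaehler_basis p _ hB
  refine ⟨Finset B, inferInstance, inferInstance, inferInstance,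
    fun F => gen p k₀ (Subtype.val '' {z : B | z ∉ F}), ?_, ?_, fun F => ⟨?_, ?_⟩⟩
  · intro F G hFG
    exact gen_mono p (Set.image_mono fun z hz hzF => hz (hFG hzF))
  · refine cap_of_forall p _ fun y hy => ?_
    refine b.ext_elem fun z => ?_
    rw [map_zero, Finsupp.zero_apply]
    let d : Derivation k₀ K K := (b.coord z).compDer (D k₀ K)
    have hd : ∀ r ∈ gen p k₀ (Subtype.val '' {w : B | w ∉ ({z} : Finset B)}), d r = 0 := fun r hr =>
      (Submodule.mem_bot K).mp (derivation_mem_of_mem_gen p d ⊥ (by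
        rintro _ ⟨w, hw, rfl⟩
        rw [Submodule.mem_bot]
        show b.coord z (D k₀ K (w : K)) = 0
        rw [← hb w, Module.Basis.coord_apply, Module.Basis.repr_self, Finsupp.single_apply,
          if_neg (fun e => hw (by simp [e]))]) hr)
    let d' : Derivation (gen p k₀ (Subtype.val '' {w : B | w ∉ ({z} : Finset B)})) K K := Derivation.mk'
      { toFun := d
        map_add' := map_add d
        map_smul' := fun r w => by
          rw [RingHom.id_apply, Algebra.smul_def, Derivation.leibniz, show d (algebraMap _ K r) = 0 from hd _ r.2,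
            smul_zero, add_zero, IntermediateField.algebraMap_apply, smul_eq_mul]
          rw [Algebra.smul_def]
          rfl }
      fun a c => d.leibniz a c
    have h1 := congrArg d'.liftKaehlerDifferential (hy {z})
    rw [Derivation.liftKaehlerDifferential_comp_D, map_zero] at h1
    exact h1
  · exact fun y => pField_le_gen p _ (pow_mem_pField p y)
  · exact finite_over p _ ((isPGenerating_iff_gen p _).mp hB.2) F le_rfl

end Groth.Agent.PBasis.Family
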