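import Groth.Prelude.Def_EGA41
import Mathlib.Algebra.MvPolynomial.Eval
import Mathlib.Algebra.TrivSqZeroExt.Basic
import Mathlib.Algebra.CharP.Lemmas
import Mathlib.RingTheory.Kaehler.Basic
import Mathlib.RingTheory.Adjoin.Basic

/-!
# `p`-bases in characteristic `p`
-/

universe u

namespace Groth.Agent.PBasis.Basic

open EGA41 MvPolynomial

variable (p : ℕ) [hp : Fact p.Prime] {A B : Type u} [CommRing A] [CommRing B] [Algebra A B]
variable {ι : Type u} (x : ι → B)

/-- The reduced exponent vectors. -/
abbrev Exp (ι : Type u) : Type u := {e : ι →₀ ℕ // ∀ i, e i < p}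

/-- `x ^ p` as an element of `A[B^p]`. -/
def pw (b : B) : pPowerSubalgebra p A B := ⟨b ^ p, Algebra.subset_adjoin ⟨b, rfl⟩⟩

/-- Remainder of an exponent vector. -/
noncomputable def red (e : ι →₀ ℕ) : Exp p ι :=
  ⟨e.mapRange (· % p) (Nat.zero_mod p), fun i => by
    simpa using Nat.mod_lt _ hp.out.pos⟩

/-- Quotient of an exponent vector. -/
noncomputable def quo (e : ι →₀ ℕ) : ι →₀ ℕ := e.mapRange (· / p) (Nat.zero_div p)

lemma red_add_quo (e : ι →₀ ℕ) : (red p e).1 + p • quo p e = e := by
  ext i; simp [red, quo, Nat.mod_add_div]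

lemma pMonomial_add (e f : ι →₀ ℕ) : pMonomial x (e + f) = pMonomial x e * pMonomial x f := by
  classical
  exact Finsupp.prod_add_index' (fun i => pow_zero _) (fun i a b => pow_add _ _ _)

lemma pMonomial_nsmul (n : ℕ) (e : ι →₀ ℕ) : pMonomial x (n • e) = pMonomial (fun i => x i ^ n) e := by
  classical
  rw [pMonomial, Finsupp.prod_of_support_subset _ Finsupp.support_smul _ (fun i _ => pow_zero _),
    pMonomial, Finsupp.prod]
  simp [← pow_mul]

lemma pMonomial_single (i : ι) (n : ℕ) : pMonomial x (Finsupp.single i n) = x i ^ n := by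
  simp [pMonomial]

lemma pMonomial_zero : pMonomial x 0 = 1 := by simp [pMonomial]

lemma map_pMonomial {C : Type u} [CommRing C] {F : Type*} [FunLike F B C] [RingHomClass F B C]
    (f : F) (e : ι →₀ ℕ) : f (pMonomial x e) = pMonomial (fun i => f (x i)) e := by
  simp [pMonomial, Finsupp.prod, map_prod, map_pow]

lemma pMonomial_eq (e : ι →₀ ℕ) :
    pMonomial x e =
      ((pMonomial (fun i => pw (A := A) p (x i)) (quo p e) : pPowerSubalgebra p A B) : B) •
        pMonomial x (red p e).1 := by
  have h : ((pMonomial (fun i => pw (A := A) p (x i)) (quo p e) : pPowerSubalgebra p A B) : B) =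
      pMonomial (fun i => x i ^ p) (quo p e) :=
    map_pMonomial (fun i => pw (A := A) p (x i)) (pPowerSubalgebra p A B).val _
  rw [h, smul_eq_mul, ← pMonomial_nsmul, ← pMonomial_add, add_comm, red_add_quo]

/-- The span of the reduced monomials is the subalgebra generated by the family. -/
theorem span_eq_adjoin :
    Submodule.span (pPowerSubalgebra p A B) (Set.range fun e : Exp p ι => pMonomial x e.1) =
      (Algebra.adjoin (pPowerSubalgebra p A B) (Set.range x)).toSubmodule := by
  refine le_antisymm ?_ ?_
  · rw [Submodule.span_le]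
    rintro _ ⟨e, rfl⟩
    show pMonomial x e.1 ∈ Algebra.adjoin (pPowerSubalgebra p A B) (Set.range x)
    exact prod_mem fun i _ => pow_mem (Algebra.subset_adjoin (Set.mem_range_self i)) _
  · rw [Algebra.adjoin_eq_span, Submodule.span_le]
    intro b hb
    obtain ⟨e, rfl⟩ : ∃ e : ι →₀ ℕ, pMonomial x e = b := by
      induction hb using Submonoid.closure_induction with
      | mem b hb => obtain ⟨i, rfl⟩ := hb; exact ⟨Finsupp.single i 1, by simp [pMonomial_single]⟩
      | one => exact ⟨0, pMonomial_zero x⟩
      | mul a b _ _ ha hb =>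
        obtain ⟨e, rfl⟩ := ha
        obtain ⟨f, rfl⟩ := hb
        exact ⟨e + f, pMonomial_add x e f⟩
    rw [pMonomial_eq p (A := A) x e]
    exact Submodule.smul_mem _ (pMonomial (fun i => pw (A := A) p (x i)) (quo p e))
      (Submodule.subset_span ⟨red p e, rfl⟩)

theorem isPGenerating_iff_adjoin :
    IsPGenerating p A x ↔ Algebra.adjoin (pPowerSubalgebra p A B) (Set.range x) = ⊤ := by
  show Submodule.span (pPowerSubalgebra p A B) (Set.range fun e : Exp p ι => pMonomial x e.1) = ⊤ ↔ _
  rw [span_eq_adjoin, Algebra.toSubmodule_eq_top]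

/-- The coefficient reduction of a polynomial modulo `X ^ p = x ^ p`. -/
noncomputable def reduce (P : MvPolynomial ι (pPowerSubalgebra p A B)) :
    Exp p ι →₀ pPowerSubalgebra p A B :=
  P.support.sum fun e =>
    Finsupp.single (red p e) (coeff e P * pMonomial (fun i => pw (A := A) p (x i)) (quo p e))

lemma eval₂_eq_reduce {E : Type u} [CommRing E] (f : pPowerSubalgebra p A B →+* E) (z : ι → E)
    (hz : ∀ i, z i ^ p = f (pw p (x i))) (P : MvPolynomial ι (pPowerSubalgebra p A B)) :
    eval₂ f z P = (reduce p x P).sum fun e c => f c * pMonomial z e.1 := by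
  have hmon : ∀ e : ι →₀ ℕ, pMonomial z e =
      f (pMonomial (fun i => pw (A := A) p (x i)) (quo p e)) * pMonomial z (red p e).1 := by
    intro e
    rw [map_pMonomial, ← funext hz, ← pMonomial_nsmul, ← pMonomial_add, add_comm, red_add_quo]
  rw [reduce, ← Finsupp.sum_finsetSum_index (by intro _; simp) (by intro _ _ _; simp [add_mul])]
  rw [eval₂_eq]
  refine Finset.sum_congr rfl fun e _ => ?_
  rw [Finsupp.sum_single_index (by simp)]
  show f _ * pMonomial z e = f (coeff e P * _) * _
  rw [hmon e, map_mul, mul_assoc]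

/-- Universal property of a `p`-basis. -/
theorem existsUnique_ringHom (hx : IsPBasis p A x) {E : Type u} [CommRing E]
    (f : pPowerSubalgebra p A B →+* E) (z : ι → E) (hz : ∀ i, z i ^ p = f (pw p (x i))) :
    ∃! v : B →+* E, (∀ s : pPowerSubalgebra p A B, v s = f s) ∧ ∀ i, v (x i) = z i := by
  let φ : MvPolynomial ι (pPowerSubalgebra p A B) →+* B := eval₂Hom (algebraMap _ B) x
  have hφ : Function.Surjective φ := by
    intro b
    have hb : b ∈ Algebra.adjoin (pPowerSubalgebra p A B) (Set.range x) :=
      ((isPGenerating_iff_adjoin p x).mp hx.2) ▸ Algebra.mem_top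
    rw [Algebra.adjoin_range_eq_range_aeval] at hb
    exact hb
  have hker : RingHom.ker φ ≤ RingHom.ker (eval₂Hom f z) := by
    intro P hP
    have h0 : reduce p x P = 0 := by
      apply hx.1
      rw [map_zero, Finsupp.linearCombination_apply]
      rw [RingHom.mem_ker, coe_eval₂Hom, eval₂_eq_reduce p x (algebraMap (pPowerSubalgebra p A B) B) x (fun i => rfl)] at hP
      exact hP
    rw [RingHom.mem_ker, coe_eval₂Hom, eval₂_eq_reduce p x f z hz, h0, Finsupp.sum_zero_index]
  refine ⟨φ.liftOfSurjective hφ ⟨eval₂Hom f z, hker⟩, ⟨fun s => ?_, fun i => ?_⟩, fun v hv => ?_⟩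
  · have h := RingHom.liftOfRightInverse_comp_apply φ (Function.surjInv hφ)
      (Function.rightInverse_surjInv hφ) ⟨eval₂Hom f z, hker⟩ (C s)
    simp [φ] at h
    exact h
  · have h := RingHom.liftOfRightInverse_comp_apply φ (Function.surjInv hφ)
      (Function.rightInverse_surjInv hφ) ⟨eval₂Hom f z, hker⟩ (X i)
    simp [φ] at h
    exact h
  · apply RingHom.eq_liftOfRightInverse φ (Function.surjInv hφ) (Function.rightInverse_surjInv hφ)
    refine MvPolynomial.ringHom_ext (fun s => ?_) fun i => ?_
    · simpa [φ] using hv.1 s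
    · simpa [φ] using hv.2 i

/-- Uniqueness half of the universal property, needing only generation. -/
theorem ringHom_ext (hx : IsPGenerating p A x) {E : Type u} [CommRing E] {v w : B →+* E}
    (hs : ∀ s : pPowerSubalgebra p A B, v s = w s) (hi : ∀ i, v (x i) = w (x i)) : v = w := by
  refine RingHom.ext fun b => ?_
  have hb : b ∈ Algebra.adjoin (pPowerSubalgebra p A B) (Set.range x) :=
    ((isPGenerating_iff_adjoin p x).mp hx) ▸ Algebra.mem_top
  induction hb using Algebra.adjoin_induction with
  | mem y hy => obtain ⟨i, rfl⟩ := hy; exact hi i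
  | algebraMap r => exact hs r
  | add a b _ _ ha hb => rw [map_add, map_add, ha, hb]
  | mul a b _ _ ha hb => rw [map_mul, map_mul, ha, hb]

/-- Element of the trivial square-zero extension. -/
def tmk {R M : Type u} (r : R) (m : M) : TrivSqZeroExt R M := (r, m)

omit hp in
@[simp] lemma fst_tmk {R M : Type u} (r : R) (m : M) : (tmk r m).fst = r := rfl

omit hp in
@[simp] lemma snd_tmk {R M : Type u} (r : R) (m : M) : (tmk r m).snd = m := rfl

variable [CharP B p]

lemma cast_smul {L : Type u} [AddCommGroup L] [Module B L] (y : L) : (p : ℕ) • y = 0 := by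
  rw [← Nat.cast_smul_eq_nsmul B, CharP.cast_eq_zero, zero_smul]

/-- Derivations kill `p`-th powers. -/
lemma derivation_pow {R : Type*} {L : Type u} [CommRing R] [Algebra R B] [AddCommGroup L] [Module B L]
    [Module R L] (D : Derivation R B L) (b : B) : D (b ^ p) = 0 := by
  rw [Derivation.leibniz_pow, cast_smul (B := B) p]

/-- A derivation over `A` kills `A[B^p]`. -/
lemma derivation_pPower {L : Type u} [AddCommGroup L] [Module B L] [Module A L]
    [IsScalarTower A B L] (D : Derivation A B L) {b : B} (hb : b ∈ pPowerSubalgebra p A B) :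
    D b = 0 := by
  induction hb using Algebra.adjoin_induction with
  | mem y hy => obtain ⟨c, rfl⟩ := hy; exact derivation_pow p D c
  | algebraMap r => exact D.map_algebraMap r
  | add a b _ _ ha hb => rw [map_add, ha, hb, add_zero]
  | mul a b _ _ ha hb => rw [Derivation.leibniz, ha, hb, smul_zero, smul_zero, add_zero]

/-- Extension of derivations along a `p`-basis. -/
theorem existsUnique_derivation (hx : IsPBasis p A x) {L : Type u} [AddCommGroup L] [Module B L]
    (d : pPowerSubalgebra p A B →+ L)
    (hd : ∀ a b : pPowerSubalgebra p A B, d (a * b) = (a : B) • d b + (b : B) • d a)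
    (hdx : ∀ i, d (pw p (x i)) = 0) (y : ι → L) :
    ∃! D' : Derivation ℤ B L, (∀ s : pPowerSubalgebra p A B, D' s = d s) ∧ ∀ i, D' (x i) = y i := by
  letI : Module Bᵐᵒᵖ L := Module.compHom _ ((RingHom.id B).fromOpposite mul_comm)
  haveI : IsCentralScalar B L := ⟨fun _ _ => rfl⟩
  let f : pPowerSubalgebra p A B →+* TrivSqZeroExt B L :=
  { toFun := fun s => tmk (s : B) (d s)
    map_one' := by
      have h1 : d 1 = 0 := by
        have := hd 1 1
        simpa using this
      ext <;> simp [h1]
    map_mul' := fun a b => by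
      ext <;> simp [hd a b, op_smul_eq_smul, add_comm]
    map_zero' := by ext <;> simp
    map_add' := fun a b => by ext <;> simp }
  let z : ι → TrivSqZeroExt B L := fun i => tmk (x i) (y i)
  have hz : ∀ i, z i ^ p = f (pw p (x i)) := fun i => by
    ext
    · simp [z, f, pw]
    · simp [z, f, hdx]
      exact cast_smul (B := B) p _
  obtain ⟨v, ⟨hvs, hvx⟩, huniq⟩ := existsUnique_ringHom p x hx f z hz
  have hfst : ∀ b, (v b).fst = b := by
    intro b
    have h : ((TrivSqZeroExt.fstHom B B L : TrivSqZeroExt B L →ₐ[B] B) : TrivSqZeroExt B L →+* B).comp v = RingHom.id B :=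
      ringHom_ext p x hx.2 (fun s => by simp [hvs, f]) fun i => by simp [hvx, z]
    exact RingHom.congr_fun h b
  let D' : Derivation ℤ B L :=
    Derivation.mk' (AddMonoidHom.mk' (fun b => (v b).snd) fun a b => by simp).toIntLinearMap
      fun a b => by simp [hfst, op_smul_eq_smul, add_comm]
  refine ⟨D', ⟨fun s => by simp [D', hvs, f], fun i => by simp [D', hvx, z]⟩, fun D hD => ?_⟩
  let w : B →+* TrivSqZeroExt B L :=
  { toFun := fun b => tmk b (D b)
    map_one' := by ext <;> simp
    map_mul' := fun a b => by ext <;> simp [op_smul_eq_smul, add_comm]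
    map_zero' := by ext <;> simp
    map_add' := fun a b => by ext <;> simp }
  have hw : w = v := huniq w ⟨fun s => by simp [w, f, hD.1], fun i => by simp [w, z, hD.2]⟩
  ext b
  have := congrArg TrivSqZeroExt.snd (RingHom.congr_fun hw b)
  simpa [w, D'] using this

/-- The differentials of a `p`-basis form a basis. -/
theorem exists_kaehler_basis (hx : IsPBasis p A x) :
    ∃ b : Module.Basis ι B (Ω[B⁄A]), ∀ i, b i = KaehlerDifferential.D A B (x i) := by
  classical
  obtain ⟨D₀, ⟨hD₀s, hD₀x⟩, -⟩ := existsUnique_derivation p x hx (L := ι →₀ B) 0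
    (fun a b => by simp) (fun i => rfl) fun i => Finsupp.single i 1
  let D₁ : Derivation A B (ι →₀ B) := Derivation.mk'
    { toFun := D₀
      map_add' := D₀.map_add
      map_smul' := fun a b => by
        have h := hD₀s ⟨algebraMap A B a, Subalgebra.algebraMap_mem _ a⟩
        simp only [Subtype.coe_mk, AddMonoidHom.zero_apply] at h
        simp [Algebra.smul_def, Derivation.leibniz, h] }
    fun a b => D₀.leibniz a b
  let l := D₁.liftKaehlerDifferential
  let m := Finsupp.linearCombination B fun i => KaehlerDifferential.D A B (x i)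
  have hl : ∀ i, l (KaehlerDifferential.D A B (x i)) = Finsupp.single i 1 := fun i => by
    rw [Derivation.liftKaehlerDifferential_comp_D]; exact hD₀x i
  have h1 : l.comp m = LinearMap.id := by
    refine Finsupp.lhom_ext' fun i => LinearMap.ext_ring ?_
    simp [m, hl]
  have h2 : m.comp l = LinearMap.id := by
    apply Derivation.liftKaehlerDifferential_unique
    refine Derivation.ext fun b => ?_
    have hb : b ∈ Algebra.adjoin (pPowerSubalgebra p A B) (Set.range x) :=
      ((isPGenerating_iff_adjoin p x).mp hx.2) ▸ Algebra.mem_top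
    induction hb using Algebra.adjoin_induction with
    | mem y hy =>
      obtain ⟨i, rfl⟩ := hy
      simp [hl, m]
    | algebraMap r => exact (derivation_pPower p _ r.2).trans (derivation_pPower p _ r.2).symm
    | add a b _ _ ha hb => rw [map_add, map_add, ha, hb]
    | mul a b _ _ ha hb => rw [Derivation.leibniz, Derivation.leibniz, ha, hb]
  refine ⟨⟨LinearEquiv.ofLinear l m h1 h2⟩, fun i => ?_⟩
  show m (Finsupp.single i 1) = _
  simp [m]

end Groth.Agent.PBasis.Basic
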