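import Mathlib.RingTheory.Kaehler.Basic
import Mathlib.Algebra.CharP.Lemmas
import Mathlib.Algebra.CharP.Algebra
import Mathlib.Algebra.Algebra.Epi
import Mathlib.RingTheory.Ideal.IdempotentFG
import Mathlib.RingTheory.IntegralClosure.IsIntegralClosure.Basic
import Mathlib.RingTheory.Nilpotent.Lemmas
import Mathlib.RingTheory.Finiteness.Nilpotent

/-!
# Purely inseparable algebras of bounded exponent
-/

universe u

namespace Groth.Agent.PBasis.Nil

open TensorProduct

variable (p : ℕ) [hp : Fact p.Prime] {A B : Type u} [CommRing A] [CommRing B] [Algebra A B]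
  [CharP B p] (s : ℕ)

/-- The diagonal ideal is nil. -/
theorem isNilpotent_of_mem_ideal (hpow : ∀ b : B, b ^ p ^ s ∈ Set.range (algebraMap A B)) :
    ∀ x ∈ KaehlerDifferential.ideal A B, IsNilpotent x := by
  intro x hx
  refine (mem_nilradical.mp ((?_ : KaehlerDifferential.ideal A B ≤ nilradical (B ⊗[A] B)) hx))
  rw [← KaehlerDifferential.span_range_eq_ideal, Ideal.span_le]
  rintro _ ⟨b, rfl⟩
  refine mem_nilradical.mpr ⟨p ^ s, ?_⟩
  have hp0 : (p : B ⊗[A] B) = 0 := by
    rw [← map_natCast (algebraMap B (B ⊗[A] B)) p, CharP.cast_eq_zero, map_zero]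
  obtain ⟨r, hr⟩ := exists_add_pow_prime_pow_eq hp.out
    ((1 : B) ⊗ₜ[A] b - b ⊗ₜ[A] 1) (b ⊗ₜ[A] (1 : B)) s
  rw [sub_add_cancel, hp0] at hr
  simp only [zero_mul, add_zero, Algebra.TensorProduct.tmul_pow, one_pow] at hr
  obtain ⟨a, ha⟩ := hpow b
  rw [← ha, Algebra.algebraMap_eq_smul_one, TensorProduct.smul_tmul] at hr
  exact left_eq_add.mp (hr.trans (add_comm _ _))

/-- Unramified and purely inseparable of bounded exponent, of finite type: surjective. -/
theorem surjective_of_subsingleton_kaehler [Algebra.FiniteType A B]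
    (hpow : ∀ b : B, b ^ p ^ s ∈ Set.range (algebraMap A B)) [Subsingleton (Ω[B⁄A])] :
    Function.Surjective (algebraMap A B) := by
  have : Algebra.IsIntegral A B := ⟨fun b => by
    obtain ⟨a, ha⟩ := hpow b
    exact IsIntegral.of_pow (pow_pos hp.out.pos s) (ha ▸ isIntegral_algebraMap)⟩
  have : Module.Finite A B := Algebra.IsIntegral.finite
  rw [← Algebra.isEpi_iff_surjective_algebraMap_of_finite, Algebra.isEpi_iff_forall_one_tmul_eq]
  have hidem : IsIdempotentElem (KaehlerDifferential.ideal A B) :=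
    (Ideal.cotangent_subsingleton_iff _).mp ‹Subsingleton (Ω[B⁄A])›
  obtain ⟨e, he, hspan⟩ :=
    (Ideal.isIdempotentElem_iff_of_fg _ (KaehlerDifferential.ideal_fg A B)).mp hidem
  rw [Ideal.submodule_span_eq] at hspan
  have he0 : e = 0 := he.eq_zero_of_isNilpotent
    (isNilpotent_of_mem_ideal p s hpow e (hspan ▸ Ideal.mem_span_singleton_self e))
  intro b
  have hmem := KaehlerDifferential.one_smul_sub_smul_one_mem_ideal A b
  rw [hspan, he0, Ideal.span_singleton_zero, Ideal.mem_bot, sub_eq_zero] at hmem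
  exact hmem

end Groth.Agent.PBasis.Nil
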