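import Groth.Agent.PBasis.Basic
import Mathlib

/-!
# Transitivity of `p`-generating families and `p`-bases (EGA 0_IV 21.1.10)
-/

set_option autoImplicit false
universe u

namespace Groth.Agent.PBasis.Tower

open EGA41 Groth.Agent.PBasis.Basic

variable (p : ℕ) [Fact p.Prime] {A C B : Type u} [CommRing A] [CommRing C] [CommRing B]
  [Algebra A C] [Algebra C B] [Algebra A B] [IsScalarTower A C B]

omit [Fact p.Prime] in
theorem mem_range_of_mem (hpow : ∀ b : B, b ^ p ∈ Set.range (algebraMap A B))
    (s : pPowerSubalgebra p A B) : ∃ a : A, algebraMap A B a = (s : B) := by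
  have : pPowerSubalgebra p A B ≤ (⊥ : Subalgebra A B) :=
    Algebra.adjoin_le (by rintro _ ⟨b, rfl⟩; exact hpow b)
  exact this s.2

omit [Fact p.Prime] in
theorem pow_mem_range (hinj : Function.Injective (algebraMap C B))
    (hpow : ∀ b : B, b ^ p ∈ Set.range (algebraMap A B)) (c : C) : c ^ p ∈ Set.range (algebraMap A C) := by
  obtain ⟨a, ha⟩ := hpow (algebraMap C B c)
  exact ⟨a, hinj (by rw [← IsScalarTower.algebraMap_apply, ha, map_pow])⟩

theorem isPGenerating {ι κ : Type u} (x : ι → C) (y : κ → B) (hx : IsPGenerating p A x)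
    (hy : IsPGenerating p C y) : IsPGenerating p A (Sum.elim (fun i => algebraMap C B (x i)) y) := by
  rw [isPGenerating_iff_adjoin] at hx hy ⊢
  set T := Algebra.adjoin (pPowerSubalgebra p A B) (Set.range (Sum.elim (fun i => algebraMap C B (x i)) y))
  have hA : ∀ b : B, b ^ p ∈ T := fun b => T.algebraMap_mem (pw p b)
  have hC : ∀ c : C, algebraMap C B c ∈ T := fun c => by
    have hc : c ∈ Algebra.adjoin (pPowerSubalgebra p A C) (Set.range x) := hx ▸ Algebra.mem_top
    induction hc using Algebra.adjoin_induction with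
    | mem z hz => obtain ⟨i, rfl⟩ := hz; exact Algebra.subset_adjoin ⟨Sum.inl i, rfl⟩
    | algebraMap r =>
      obtain ⟨r, hr⟩ := r
      show algebraMap C B r ∈ T
      induction hr using Algebra.adjoin_induction with
      | mem z hz => obtain ⟨d, rfl⟩ := hz; show algebraMap C B (d ^ p) ∈ T; rw [map_pow]; exact hA _
      | algebraMap a =>
        rw [← IsScalarTower.algebraMap_apply]
        exact T.algebraMap_mem (algebraMap A _ a)
      | add a b _ _ ha hb => rw [map_add]; exact add_mem ha hb
      | mul a b _ _ ha hb => rw [map_mul]; exact mul_mem ha hb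
    | add a b _ _ ha hb => rw [map_add]; exact add_mem ha hb
    | mul a b _ _ ha hb => rw [map_mul]; exact mul_mem ha hb
  rw [eq_top_iff]
  intro b hb'
  clear hb'
  have hb : b ∈ Algebra.adjoin (pPowerSubalgebra p C B) (Set.range y) := hy ▸ Algebra.mem_top
  induction hb using Algebra.adjoin_induction with
  | mem z hz => obtain ⟨i, rfl⟩ := hz; exact Algebra.subset_adjoin ⟨Sum.inr i, rfl⟩
  | algebraMap r =>
    obtain ⟨r, hr⟩ := r
    show r ∈ T
    induction hr using Algebra.adjoin_induction with
    | mem z hz => obtain ⟨d, rfl⟩ := hz; exact hA d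
    | algebraMap c => exact hC c
    | add a b _ _ ha hb => exact add_mem ha hb
    | mul a b _ _ ha hb => exact mul_mem ha hb
  | add a b _ _ ha hb => exact add_mem ha hb
  | mul a b _ _ ha hb => exact mul_mem ha hb

/-- Change of scalars along a bijection. -/
theorem linearIndependent_congr {R R' M I : Type*} [Semiring R] [Semiring R'] [AddCommMonoid M]
    [Module R M] [Module R' M] (φ : R → R') (h0 : φ 0 = 0) (hφ : Function.Bijective φ)
    (h : ∀ (r : R) (m : M), φ r • m = r • m) (v : I → M) :
    LinearIndependent R' v ↔ LinearIndependent R v := by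
  constructor
  · intro hv
    refine hv.map_of_injective_injectiveₛ φ (AddMonoidHom.id M) hφ.1 (fun _ _ e => e) fun r m => ?_
    exact h r m
  · intro hv
    refine hv.map_of_injective_injectiveₛ (Function.surjInv hφ.2) (AddMonoidHom.id M)
      (Function.injective_surjInv _) (fun _ _ e => e) fun r m => ?_
    show (Function.surjInv hφ.2 r : R) • m = r • m
    rw [← h, Function.surjInv_eq hφ.2 r]

/-- Products of reduced exponent vectors. -/
noncomputable def expEquiv (ι κ : Type u) : Exp p (ι ⊕ κ) ≃ Exp p ι × Exp p κ where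
  toFun e := (⟨(Finsupp.sumFinsuppEquivProdFinsupp e.1).1, fun i => e.2 (Sum.inl i)⟩,
    ⟨(Finsupp.sumFinsuppEquivProdFinsupp e.1).2, fun i => e.2 (Sum.inr i)⟩)
  invFun q := ⟨Finsupp.sumFinsuppEquivProdFinsupp.symm (q.1.1, q.2.1), fun i => by
    rcases i with i | i
    · exact q.1.2 i
    · exact q.2.2 i⟩
  left_inv e := Subtype.ext (Finsupp.sumFinsuppEquivProdFinsupp.symm_apply_apply e.1)
  right_inv q := by
    refine Prod.ext (Subtype.ext ?_) (Subtype.ext ?_) <;> simp

omit [Fact p.Prime] in
theorem pMonomial_elim {ι κ : Type u} (f : ι → B) (y : κ → B) (e : ι ⊕ κ →₀ ℕ) :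
    pMonomial (Sum.elim f y) e = pMonomial f (Finsupp.sumFinsuppEquivProdFinsupp e).1 *
      pMonomial y (Finsupp.sumFinsuppEquivProdFinsupp e).2 := by
  classical
  have he : e = (Finsupp.sumFinsuppEquivProdFinsupp e).1.mapDomain Sum.inl +
      (Finsupp.sumFinsuppEquivProdFinsupp e).2.mapDomain Sum.inr := by
    ext (i | i) <;> simp [Finsupp.mapDomain_apply Sum.inl_injective, Finsupp.mapDomain_apply Sum.inr_injective,
      Finsupp.mapDomain_of_notMem_range, Finsupp.sumFinsuppEquivProdFinsupp]
  conv_lhs => rw [he]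
  unfold pMonomial
  rw [Finsupp.prod_add_index' (fun i => pow_zero _) (fun i a b => pow_add _ _ _),
    Finsupp.prod_mapDomain_index_inj Sum.inl_injective, Finsupp.prod_mapDomain_index_inj Sum.inr_injective]
  rfl

theorem isPIndependent_iff (hinj : Function.Injective (algebraMap C B))
    (hpow : ∀ b : B, b ^ p ∈ Set.range (algebraMap A B)) {ι κ : Type u} (x : ι → C) (y : κ → B)
    (hx : IsPBasis p A x) :
    IsPIndependent p C y ↔ IsPIndependent p A (Sum.elim (fun i => algebraMap C B (x i)) y) := by
  classical
  set R := pPowerSubalgebra p A C with hR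
  let u : Exp p ι → C := fun e => pMonomial x e.1
  let v : Exp p κ → B := fun e => pMonomial y e.1
  let w : Exp p ι × Exp p κ → B := fun q => u q.1 • v q.2
  -- `C ≃ C[B^p]`
  have hC' : ∀ b : B, b ^ p ∈ Set.range (algebraMap C B) := fun b => by
    obtain ⟨a, ha⟩ := hpow b
    exact ⟨algebraMap A C a, by rw [← IsScalarTower.algebraMap_apply, ha]⟩
  have h1 : IsPIndependent p C y ↔ LinearIndependent C v :=
    linearIndependent_congr (fun c : C => (algebraMap C (pPowerSubalgebra p C B)) c) (map_zero _)
      ⟨fun a b e => hinj (congrArg Subtype.val e), fun s => by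
        obtain ⟨c, hc⟩ := mem_range_of_mem p hC' s
        exact ⟨c, Subtype.ext hc⟩⟩
      (fun c m => algebraMap_smul _ c m) v
  -- `A[C^p] ≃ A[B^p]`
  have hRB : ∀ r : R, algebraMap C B r ∈ pPowerSubalgebra p A B := fun r => by
    obtain ⟨a, ha⟩ := mem_range_of_mem p (pow_mem_range p hinj hpow) r
    rw [← ha, ← IsScalarTower.algebraMap_apply]
    exact Subalgebra.algebraMap_mem _ a
  have hmon : (fun e => pMonomial (Sum.elim (fun i => algebraMap C B (x i)) y) e.1) = w ∘ expEquiv p ι κ := by
    funext e
    show _ = u _ • v _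
    rw [pMonomial_elim, Algebra.smul_def, map_pMonomial]
    rfl
  have h2 : IsPIndependent p A (Sum.elim (fun i => algebraMap C B (x i)) y) ↔ LinearIndependent R w := by
    rw [IsPIndependent, hmon, linearIndependent_equiv]
    refine linearIndependent_congr (fun r : R => (⟨algebraMap C B r, hRB r⟩ : pPowerSubalgebra p A B))
      (Subtype.ext (map_zero _)) ⟨fun a b e => Subtype.ext (hinj (congrArg Subtype.val e)), fun s => ?_⟩
      (fun r m => ?_) w
    · obtain ⟨a, ha⟩ := mem_range_of_mem p hpow s
      exact ⟨algebraMap A R a, Subtype.ext ((IsScalarTower.algebraMap_apply A C B a).symm.trans ha)⟩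
    · show algebraMap C B (r : C) * m = (r : C) • m
      rw [Algebra.smul_def]
  rw [h1, h2]
  constructor
  · intro hv
    exact linearIndependent_smul hx.1 hv
  · intro hw
    let bx : Module.Basis (Exp p ι) R C := Module.Basis.mk hx.1 (top_le_iff.mpr hx.2)
    let F : (Exp p κ →₀ C) →ₗ[R] B := (Finsupp.linearCombination C v).restrictScalars R
    let bb := Finsupp.basis (fun _ : Exp p κ => bx)
    have hF : LinearIndependent R (F ∘ bb) := by
      have e : F ∘ bb = w ∘ (fun i : (Σ _ : Exp p κ, Exp p ι) => (i.2, i.1)) := by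
        funext i
        simp [F, bb, bx, w, u, Finsupp.linearCombination_single]
      rw [e]
      exact hw.comp _ fun i j h => by
        obtain ⟨h1, h2⟩ := Prod.ext_iff.mp h
        exact Sigma.ext h2 (heq_of_eq h1)
    show Function.Injective (Finsupp.linearCombination C v)
    intro a b hab
    have key : ∀ z, Finsupp.linearCombination R (F ∘ bb) (bb.repr z) = F z := fun z => by
      rw [← Finsupp.apply_linearCombination, bb.linearCombination_repr]
    refine bb.repr.injective (hF ?_)
    rw [key, key]
    exact hab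

end Groth.Agent.PBasis.Tower
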