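import Groth.Agent.PBasis.Basic
import Groth.Agent.PBasis.Tower
import Mathlib

/-!
# A basis of the imperfection module from `p`-bases (EGA 0_IV 21.4.?)
-/

set_option autoImplicit false
universe u

open TensorProduct EGA41 KaehlerDifferential

noncomputable section

namespace Groth.Agent.PBasis.Upsilon

open Groth.Agent.PBasis.Basic

variable {p : ℕ} [Fact p.Prime] {R A B : Type u} [CommRing R] [CommRing A] [CommRing B] [IsReduced B]
  [Algebra R A] [Algebra A B] [Algebra R B] [IsScalarTower R A B] [CharP B p]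
  {Λ M : Type u} {x : Λ → B} {x' : Λ → A} {y : M → A}

theorem exists_basis (hinj : Function.Injective (algebraMap A B))
    (hpow : ∀ b : B, b ^ p ∈ Set.range (algebraMap A B))
    (hR : Set.range (algebraMap R B) = Set.range fun b : B => b ^ p)
    (hx : IsPBasis p A x) (hx' : ∀ i, algebraMap A B (x' i) = x i ^ p) (hy : IsPBasis p R y) :
    ∃ b : Module.Basis Λ B (EGA41.imperfection ℤ A B),
      ∀ i, (b i : B ⊗[A] Ω[A⁄ℤ]) = (1 : B) ⊗ₜ[A] D ℤ A (x' i) := by
  classical
  haveI : CharP A p := (algebraMap A B).charP hinj p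
  haveI : ExpChar B p := ExpChar.prime Fact.out
  have hfrob : Function.Injective (frobenius B p) := frobenius_inj B p
  -- `B^p ⊆ A`
  choose φ hφ using hpow
  have hpow : ∀ b : B, b ^ p ∈ Set.range (algebraMap A B) := fun b => ⟨φ b, hφ b⟩
  have hpowR : ∀ b : B, b ^ p ∈ Set.range (algebraMap R B) := fun b => by rw [hR]; exact ⟨b, rfl⟩
  have φmul : ∀ a b, φ (a * b) = φ a * φ b := fun a b => hinj (by rw [map_mul, hφ, hφ, hφ, mul_pow])
  have φadd : ∀ a b, φ (a + b) = φ a + φ b := fun a b => hinj (by rw [map_add, hφ, hφ, hφ, add_pow_char])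
  have hφmem : ∀ b, φ b ∈ pPowerSubalgebra p R A := fun b => by
    obtain ⟨r, hr⟩ := hpowR b
    rw [show φ b = algebraMap R A r from hinj (by rw [← IsScalarTower.algebraMap_apply, hr, hφ])]
    exact Subalgebra.algebraMap_mem _ r
  have hS : ∀ r : pPowerSubalgebra p R A, ∃ b : B, φ b = r := by
    rintro ⟨r, hr⟩
    show ∃ b, φ b = r
    induction hr using Algebra.adjoin_induction with
    | mem z hz =>
      obtain ⟨a, rfl⟩ := hz
      exact ⟨algebraMap A B a, hinj (by rw [hφ, map_pow])⟩
    | algebraMap r =>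
      obtain ⟨b, hb⟩ : algebraMap R B r ∈ Set.range fun b : B => b ^ p := hR ▸ ⟨r, rfl⟩
      exact ⟨b, hinj (by rw [hφ, ← IsScalarTower.algebraMap_apply, ← hb])⟩
    | add a b _ _ ha hb =>
      obtain ⟨a', rfl⟩ := ha; obtain ⟨b', rfl⟩ := hb; exact ⟨a' + b', φadd _ _⟩
    | mul a b _ _ ha hb =>
      obtain ⟨a', rfl⟩ := ha; obtain ⟨b', rfl⟩ := hb; exact ⟨a' * b', φmul _ _⟩
  choose ψ hψ using hS
  have hψeq : ∀ (r : pPowerSubalgebra p R A) (b : B), φ b = r → ψ r = b := fun r b h => by
    refine hfrob ?_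
    show ψ r ^ p = b ^ p
    rw [← hφ, ← hφ, hψ, h]
  have hψpow : ∀ r : pPowerSubalgebra p R A, algebraMap A B (r : A) = ψ r ^ p := fun r =>
    (congrArg (algebraMap A B) (hψ r)).symm.trans (hφ _)
  -- the absolute p-basis of `B`
  let z : M ⊕ Λ → B := Sum.elim (fun i => algebraMap A B (y i)) x
  have hz : IsPBasis p R z :=
    ⟨(Tower.isPIndependent_iff p hinj hpowR y x hy).mp hx.1, Tower.isPGenerating p y x hy.2 hx.2⟩
  obtain ⟨bz, hbz⟩ := exists_kaehler_basis p z hz
  let u : Λ → B ⊗[A] Ω[A⁄ℤ] := fun i => (1 : B) ⊗ₜ[A] D ℤ A (x' i)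
  let v : M → B ⊗[A] Ω[A⁄ℤ] := fun i => (1 : B) ⊗ₜ[A] D ℤ A (y i)
  have hu : ∀ i, u i ∈ EGA41.imperfection ℤ A B := fun i => by
    rw [EGA41.imperfection, LinearMap.mem_ker, mapBaseChange_tmul, one_smul, map_D, hx']
    exact derivation_pow p (D ℤ B) (x i)
  -- the functionals
  have hF : ∀ i, ∃ F : B ⊗[A] Ω[A⁄ℤ] →ₗ[B] B, ∀ j, F (u j) = if j = i then 1 else 0 := by
    intro i
    let e : B → B := fun b => bz.coord (Sum.inr i) (D R B b)
    have eadd : ∀ a b, e (a + b) = e a + e b := fun a b => by simp [e]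
    have emul : ∀ a b, e (a * b) = a * e b + b * e a := fun a b => by simp [e]
    let d : pPowerSubalgebra p R A →+ B := AddMonoidHom.mk' (fun r => e (ψ r) ^ p) fun r s => by
      show e (ψ (r + s)) ^ p = e (ψ r) ^ p + e (ψ s) ^ p
      rw [hψeq (r + s) (ψ r + ψ s) (by rw [φadd, hψ, hψ]; rfl), eadd, add_pow_char]
    have hd : ∀ r s, d (r * s) = (r : A) • d s + (s : A) • d r := fun r s => by
      show e (ψ (r * s)) ^ p = (r : A) • e (ψ s) ^ p + (s : A) • e (ψ r) ^ p
      rw [hψeq (r * s) (ψ r * ψ s) (by rw [φmul, hψ, hψ]; rfl), emul, add_pow_char, mul_pow, mul_pow,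
        Algebra.smul_def, Algebra.smul_def, hψpow, hψpow]
    have hdy : ∀ m, d (pw p (y m)) = 0 := fun m => by
      show e (ψ (pw p (y m))) ^ p = 0
      rw [hψeq _ (z (Sum.inl m)) (hinj (by rw [hφ]; exact (map_pow _ _ _).symm))]
      simp [e, ← hbz, zero_pow (Fact.out : p.Prime).ne_zero]
    obtain ⟨D', ⟨hD's, -⟩, -⟩ := existsUnique_derivation p y hy (L := B) d hd hdy (fun _ => 0)
    refine ⟨LinearMap.liftBaseChange B D'.liftKaehlerDifferential, fun j => ?_⟩
    rw [LinearMap.liftBaseChange_tmul, one_smul, Derivation.liftKaehlerDifferential_comp_D]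
    have hj : x' j = φ (x j) := hinj (by rw [hφ, hx'])
    have hmem : x' j ∈ pPowerSubalgebra p R A := hj ▸ hφmem _
    rw [hD's ⟨x' j, hmem⟩]
    show e (ψ ⟨x' j, hmem⟩) ^ p = _
    rw [hψeq ⟨x' j, hmem⟩ (z (Sum.inr j)) hj.symm]
    simp only [e, ← hbz, Module.Basis.coord_apply, Module.Basis.repr_self, Finsupp.single_apply, Sum.inr.injEq]
    split <;> simp [zero_pow (Fact.out : p.Prime).ne_zero]
  choose F hF using hF
  have hli : LinearIndependent B u := by
    rw [linearIndependent_iff]
    intro l hl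
    ext i
    have h1 := congrArg (F i) hl
    rw [map_zero, Finsupp.apply_linearCombination, Finsupp.linearCombination_apply] at h1
    simpa [Function.comp_apply, hF, Finsupp.sum_fintype, Finsupp.sum] using h1
  -- generators
  have htop : ⊤ ≤ Submodule.span B (Set.range u ∪ Set.range v) := by
    set N := Submodule.span B (Set.range u ∪ Set.range v)
    have hmulN : ∀ a b : A, (1 : B) ⊗ₜ[A] D ℤ A a ∈ N → (1 : B) ⊗ₜ[A] D ℤ A b ∈ N →
        (1 : B) ⊗ₜ[A] D ℤ A (a * b) ∈ N := fun a b ha hb => by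
      rw [Derivation.leibniz, tmul_add, tmul_smul, tmul_smul]
      exact add_mem (N.smul_of_tower_mem a hb) (N.smul_of_tower_mem b ha)
    have hφN : ∀ b : B, (1 : B) ⊗ₜ[A] D ℤ A (φ b) ∈ N := by
      intro b
      have hb : b ∈ Algebra.adjoin (pPowerSubalgebra p R B) (Set.range z) :=
        ((isPGenerating_iff_adjoin p z).mp hz.2) ▸ Algebra.mem_top
      induction hb using Algebra.adjoin_induction with
      | mem w hw =>
        obtain ⟨i | i, rfl⟩ := hw
        · rw [show φ (z (Sum.inl i)) = y i ^ p from hinj (by rw [hφ, map_pow]; rfl), derivation_pow p (D ℤ A),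
            tmul_zero]
          exact zero_mem _
        · rw [show φ (z (Sum.inr i)) = x' i from hinj (by rw [hφ, hx']; rfl)]
          exact Submodule.subset_span (Or.inl ⟨i, rfl⟩)
      | algebraMap r =>
        obtain ⟨c, hc⟩ : ∃ c : B, c ^ p = (r : B) := by
          obtain ⟨r', hr'⟩ := Tower.mem_range_of_mem p hpowR r
          have : (r : B) ∈ Set.range fun b : B => b ^ p := hR ▸ ⟨r', hr'⟩
          exact this
        rw [show φ (algebraMap (pPowerSubalgebra p R B) B r) = φ c ^ p from
          hinj (by rw [map_pow, hφ, hφ]; show (r : B) ^ p = _; rw [hc]), derivation_pow p (D ℤ A), tmul_zero]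
        exact zero_mem _
      | add a b _ _ ha hb => rw [φadd, map_add, tmul_add]; exact add_mem ha hb
      | mul a b _ _ ha hb => rw [φmul]; exact hmulN _ _ ha hb
    have hD : ∀ a : A, (1 : B) ⊗ₜ[A] D ℤ A a ∈ N := by
      intro a
      have ha : a ∈ Algebra.adjoin (pPowerSubalgebra p R A) (Set.range y) :=
        ((isPGenerating_iff_adjoin p y).mp hy.2) ▸ Algebra.mem_top
      induction ha using Algebra.adjoin_induction with
      | mem w hw => obtain ⟨i, rfl⟩ := hw; exact Submodule.subset_span (Or.inr ⟨i, rfl⟩)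
      | algebraMap r =>
        show (1 : B) ⊗ₜ[A] D ℤ A (r : A) ∈ N
        rw [← hψ r]; exact hφN _
      | add a b _ _ ha hb => rw [map_add, tmul_add]; exact add_mem ha hb
      | mul a b _ _ ha hb => exact hmulN _ _ ha hb
    intro w hw'
    clear hw'
    induction w with
    | zero => exact zero_mem _
    | add a b ha hb => exact add_mem ha hb
    | tmul c ω =>
      rw [← mul_one c, ← smul_eq_mul, ← smul_tmul']
      refine N.smul_mem c ?_
      have hω : ω ∈ Submodule.span A (Set.range (D ℤ A)) := by rw [span_range_derivation]; trivial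
      induction hω using Submodule.span_induction with
      | mem w hw => obtain ⟨a, rfl⟩ := hw; exact hD a
      | zero => simp
      | add a b _ _ ha hb => rw [tmul_add]; exact add_mem ha hb
      | smul a b _ hb => rw [tmul_smul]; exact N.smul_of_tower_mem a hb
  -- the kernel
  have hker : Submodule.span B (Set.range u) = EGA41.imperfection ℤ A B := by
    refine le_antisymm (Submodule.span_le.mpr (by rintro _ ⟨i, rfl⟩; exact hu i)) fun w hw => ?_
    have h0 : w ∈ Submodule.span B (Set.range u ∪ Set.range v) := htop trivial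
    rw [Submodule.span_union] at h0
    obtain ⟨w1, hw1, w2, hw2, rfl⟩ := Submodule.mem_sup.mp h0
    have hw1' : w1 ∈ EGA41.imperfection ℤ A B :=
      Submodule.span_le.mpr (by rintro _ ⟨i, rfl⟩; exact hu i) hw1
    have hw2' : mapBaseChange ℤ A B w2 = 0 := by
      have := (EGA41.imperfection ℤ A B).sub_mem hw hw1'
      rwa [add_sub_cancel_left] at this
    obtain ⟨l, rfl⟩ := Finsupp.mem_span_range_iff_exists_finsupp.mp hw2
    have h2 := congrArg (map ℤ R B B) hw2'
    simp only [Finsupp.sum, map_sum, map_smul, map_zero] at h2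
    have hl : l = 0 := by
      have hG : ∀ i, map ℤ R B B (mapBaseChange ℤ A B (v i)) = bz (Sum.inl i) := fun i => by
        rw [mapBaseChange_tmul, one_smul, map_D, map_D, hbz]
        rfl
      simp only [hG] at h2
      exact (linearIndependent_iff.mp (bz.linearIndependent.comp _ Sum.inl_injective)) l
        (by rw [Finsupp.linearCombination_apply, Finsupp.sum]; exact h2)
    simpa [hl] using hw1
  refine ⟨(Module.Basis.span hli).map (LinearEquiv.ofEq _ _ hker), fun i => ?_⟩
  simp [u, Module.Basis.span_apply]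

end Groth.Agent.PBasis.Upsilon
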